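import Mathlib

/-!
# S3894 piece NC-ARITHA (helper7): `arith_flag`, `arith_not_dvd`
-/

set_option autoImplicit false

namespace Cfsg.Agent.Helper17.NC

theorem nc_aritha_prod (q n : ℕ) :
    ∏ i : Fin n, (q ^ n - q ^ (i : ℕ)) =
      q ^ (n * (n - 1) / 2) * ∏ j : Fin n, (q ^ (n - (j : ℕ)) - 1) := by
  have h1 : ∏ i : Fin n, (q ^ n - q ^ (i : ℕ)) =
      ∏ i : Fin n, (q ^ (i : ℕ) * (q ^ (n - (i : ℕ)) - 1)) := by
    apply Finset.prod_congr rfl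
    intro j _
    have hj : j.val ≤ n := by have := j.2; omega
    rw [Nat.mul_sub, mul_one, ← pow_add, Nat.add_sub_cancel' hj]
  rw [h1, Finset.prod_mul_distrib]
  congr 1
  rw [Fin.prod_univ_eq_prod_range (fun i => q ^ i) n, Finset.prod_pow_eq_pow_sum,
    Finset.sum_range_id]

/-- NC-ARITHA (1/2) -/
theorem arith_flag (q n Fl : ℕ) (hq : 2 ≤ q)
    (hFl : Fl * ((q - 1) ^ n * q ^ (n * (n - 1) / 2)) = ∏ i : Fin n, (q ^ n - q ^ (i : ℕ))) :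
    Fl * (q - 1) ^ n = ∏ j : Fin n, (q ^ (n - (j : ℕ)) - 1) := by
  rw [nc_aritha_prod] at hFl
  have hpos : 0 < q ^ (n * (n - 1) / 2) := Nat.pow_pos (by omega)
  apply Nat.eq_of_mul_eq_mul_left hpos
  rw [← hFl]
  ring

/-- NC-ARITHA (2/2) -/
theorem arith_not_dvd (p f q n Fl : ℕ) (hp : p.Prime) (hf : 0 < f) (hq : q = p ^ f)
    (hFl : Fl * (q - 1) ^ n = ∏ j : Fin n, (q ^ (n - (j : ℕ)) - 1)) : ¬ p ∣ Fl := by
  intro hdvd
  have h1 : p ∣ ∏ j : Fin n, (q ^ (n - (j : ℕ)) - 1) := by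
    rw [← hFl]
    exact Dvd.dvd.mul_right hdvd _
  rw [Prime.dvd_finsetProd_iff hp.prime] at h1
  obtain ⟨j, _, hj⟩ := h1
  have hk : 1 ≤ n - (j : ℕ) := by have := j.2; omega
  have hpq : p ∣ q := by
    rw [hq]
    exact dvd_pow_self p (by omega)
  have hpqk : p ∣ q ^ (n - (j : ℕ)) := dvd_pow hpq (by omega)
  have hqpos : 1 ≤ q ^ (n - (j : ℕ)) := by
    apply Nat.one_le_pow
    rw [hq]
    exact Nat.pow_pos hp.pos
  have h2 : p ∣ q ^ (n - (j : ℕ)) - (q ^ (n - (j : ℕ)) - 1) := Nat.dvd_sub hpqk hj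
  have h3 : q ^ (n - (j : ℕ)) - (q ^ (n - (j : ℕ)) - 1) = 1 := by omega
  rw [h3] at h2
  exact hp.one_lt.ne' (Nat.dvd_one.mp h2)

end Cfsg.Agent.Helper17.NC
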