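import Mathlib

/-!
# S3894 piece NC-ARITHB (helper22): two elementary facts about `∏_{j<n} (q^(n-j) - 1)`.
-/

set_option autoImplicit false

namespace Cfsg.Agent.Helper17.NC

open Matrix

theorem nc_arithb_range (q n : ℕ) :
    ∏ j : Fin n, (q ^ (n - (j : ℕ)) - 1) = ∏ j ∈ Finset.range n, (q ^ (n - j) - 1) :=
  Fin.prod_univ_eq_prod_range (fun j => q ^ (n - j) - 1) n

/-- NC-ARITHB (1/2) -/
theorem arith_split (q n m : ℕ) (hm : m ≤ n) :
    ∏ j : Fin n, (q ^ (n - (j : ℕ)) - 1) =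
      (∏ j : Fin m, (q ^ (n - (j : ℕ)) - 1)) * ∏ j : Fin (n - m), (q ^ (n - m - (j : ℕ)) - 1) := by
  rw [nc_arithb_range, nc_arithb_range q (n - m),
    Fin.prod_univ_eq_prod_range (fun j => q ^ (n - j) - 1) m]
  have hn : n = m + (n - m) := by omega
  conv_lhs => rw [hn, Finset.prod_range_add]
  congr 1
  · apply Finset.prod_congr rfl
    intro j _
    rw [← hn]
  · apply Finset.prod_congr rfl
    intro j _
    rw [← hn, Nat.sub_add_eq]

theorem nc_arithb_lower_range (q : ℕ) (hq : 2 ≤ q) (k : ℕ) :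
    (q - 1) ^ (k + 1) * 3 ^ k ≤ ∏ j ∈ Finset.range (k + 1), (q ^ (k + 1 - j) - 1) := by
  induction k with
  | zero => simp
  | succ k ih =>
    rw [Finset.prod_range_succ']
    have h1 : ∏ j ∈ Finset.range (k + 1), (q ^ (k + 1 + 1 - (j + 1)) - 1) =
        ∏ j ∈ Finset.range (k + 1), (q ^ (k + 1 - j) - 1) := by
      apply Finset.prod_congr rfl
      intro j _
      rw [Nat.add_sub_add_right]
    rw [h1, Nat.sub_zero]
    have h2 : 3 * (q - 1) ≤ q ^ (k + 1 + 1) - 1 := by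
      have h3 : q ^ 2 ≤ q ^ (k + 1 + 1) := Nat.pow_le_pow_right (by omega) (by omega)
      have h4 : 3 * (q - 1) + 1 ≤ q ^ 2 := by
        obtain ⟨r, rfl⟩ : ∃ r, q = r + 2 := ⟨q - 2, by omega⟩
        have : r + 2 - 1 = r + 1 := by omega
        rw [this]
        nlinarith
      omega
    calc (q - 1) ^ (k + 1 + 1) * 3 ^ (k + 1)
        = ((q - 1) ^ (k + 1) * 3 ^ k) * (3 * (q - 1)) := by ring
      _ ≤ (∏ j ∈ Finset.range (k + 1), (q ^ (k + 1 - j) - 1)) * (q ^ (k + 1 + 1) - 1) :=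
          Nat.mul_le_mul ih h2

/-- NC-ARITHB (2/2) -/
theorem arith_lower (q k : ℕ) (hq : 2 ≤ q) (hk : 1 ≤ k) :
    (q - 1) ^ k * 3 ^ (k - 1) ≤ ∏ j : Fin k, (q ^ (k - (j : ℕ)) - 1) := by
  obtain ⟨k', rfl⟩ : ∃ k', k = k' + 1 := ⟨k - 1, by omega⟩
  rw [nc_arithb_range, Nat.add_sub_cancel]
  exact nc_arithb_lower_range q hq k'

end Cfsg.Agent.Helper17.NC
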