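import Mathlib
import Cfsg.Agent.Lib.NC.NCARITHA
import Cfsg.Agent.Lib.NC.NCARITHB

/-!
# S3894 piece NC-ARITHC (helper24): the number of proper nonzero subspaces is at most (less than,
for `n ≥ 3`) the number of flags
-/

set_option autoImplicit false

namespace Cfsg.Agent.Helper17.NC

open Matrix

/-- `n - 1 < 3 ^ (n - 2)` for `n ≥ 3` -/
theorem nc_arithc_pow (n : ℕ) (hn : 3 ≤ n) : n - 1 < 3 ^ (n - 2) := by
  obtain ⟨k, rfl⟩ : ∃ k, n = k + 3 := ⟨n - 3, by omega⟩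
  have e : k + 3 - 2 = k + 1 := by omega
  rw [e]
  have h : k + 2 < 3 ^ (k + 1) := by
    induction k with
    | zero => norm_num
    | succ k ih =>
      rw [pow_succ]
      omega
  omega

/-- NC-ARITHC (L2: from NC-ARITHA, NC-ARITHB) -/
theorem arith_main (q n : ℕ) (hq : 2 ≤ q) (hn : 2 ≤ n) (N : ℕ → ℕ) (Fl : ℕ)
    (hN : ∀ m, 0 < m → m < n →
      N m * ∏ j : Fin m, (q ^ (m - (j : ℕ)) - 1) = ∏ j : Fin m, (q ^ (n - (j : ℕ)) - 1))
    (hFl : Fl * ((q - 1) ^ n * q ^ (n * (n - 1) / 2)) = ∏ i : Fin n, (q ^ n - q ^ (i : ℕ))) :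
    ∑ m ∈ Finset.Ioo 0 n, N m ≤ Fl ∧ (3 ≤ n → ∑ m ∈ Finset.Ioo 0 n, N m < Fl) := by
  have hA := arith_flag q n Fl hq hFl
  have hq1 : 0 < (q - 1) ^ n := pow_pos (by omega) n
  have h3pos : 0 < 3 ^ (n - 2) := pow_pos (by norm_num) _
  -- `Fl` is positive
  have hFlpos : 0 < Fl := by
    rcases Nat.eq_zero_or_pos Fl with h0 | h0
    · exfalso
      rw [h0, zero_mul] at hA
      have hpos : 0 < ∏ j : Fin n, (q ^ (n - (j : ℕ)) - 1) := by
        apply Finset.prod_pos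
        intro j _
        have h1 : 1 ≤ n - (j : ℕ) := by
          have := j.isLt
          omega
        have h2 : 2 ≤ q ^ (n - (j : ℕ)) := by
          calc 2 ≤ q := hq
            _ = q ^ 1 := (pow_one q).symm
            _ ≤ q ^ (n - (j : ℕ)) := Nat.pow_le_pow_right (by omega) h1
        omega
      omega
    · exact h0
  -- each term
  have hterm : ∀ m, 0 < m → m < n → N m * 3 ^ (n - 2) ≤ Fl := by
    intro m hm0 hmn
    have h1 := hN m hm0 hmn
    have h2 := arith_split q n m hmn.le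
    have h3 := arith_lower q m hq hm0
    have h4 := arith_lower q (n - m) hq (by omega)
    have h5 : N m * ((∏ j : Fin m, (q ^ (m - (j : ℕ)) - 1)) *
        ∏ j : Fin (n - m), (q ^ (n - m - (j : ℕ)) - 1)) = Fl * (q - 1) ^ n := by
      rw [← mul_assoc, h1, ← h2, hA]
    have e1 : (q - 1) ^ n = (q - 1) ^ m * (q - 1) ^ (n - m) := by
      rw [← pow_add]
      congr 1
      omega
    have e2 : 3 ^ (n - 2) = 3 ^ (m - 1) * 3 ^ (n - m - 1) := by
      rw [← pow_add]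
      congr 1
      omega
    have h6 : (q - 1) ^ n * 3 ^ (n - 2) ≤ (∏ j : Fin m, (q ^ (m - (j : ℕ)) - 1)) *
        ∏ j : Fin (n - m), (q ^ (n - m - (j : ℕ)) - 1) := by
      calc (q - 1) ^ n * 3 ^ (n - 2)
          = ((q - 1) ^ m * 3 ^ (m - 1)) * ((q - 1) ^ (n - m) * 3 ^ (n - m - 1)) := by
            rw [e1, e2]
            ring
        _ ≤ _ := Nat.mul_le_mul h3 h4
    have h7 : N m * ((q - 1) ^ n * 3 ^ (n - 2)) ≤ Fl * (q - 1) ^ n := by
      rw [← h5]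
      exact Nat.mul_le_mul_left _ h6
    have h8 : (N m * 3 ^ (n - 2)) * (q - 1) ^ n ≤ Fl * (q - 1) ^ n := by
      calc (N m * 3 ^ (n - 2)) * (q - 1) ^ n = N m * ((q - 1) ^ n * 3 ^ (n - 2)) := by ring
        _ ≤ _ := h7
    exact Nat.le_of_mul_le_mul_right h8 hq1
  -- the sum
  have hsum : (∑ m ∈ Finset.Ioo 0 n, N m) * 3 ^ (n - 2) ≤ (n - 1) * Fl := by
    rw [Finset.sum_mul]
    have h := Finset.sum_le_card_nsmul (Finset.Ioo 0 n) (fun m => N m * 3 ^ (n - 2)) Fl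
      (fun m hm => hterm m (Finset.mem_Ioo.mp hm).1 (Finset.mem_Ioo.mp hm).2)
    rw [Nat.card_Ioo, smul_eq_mul] at h
    have e : n - 0 - 1 = n - 1 := by omega
    rw [e] at h
    exact h
  refine ⟨?_, ?_⟩
  · have hle : n - 1 ≤ 3 ^ (n - 2) := by
      rcases Nat.lt_or_ge n 3 with h | h
      · have : n = 2 := by omega
        subst this
        norm_num
      · exact (nc_arithc_pow n h).le
    have h9 : (∑ m ∈ Finset.Ioo 0 n, N m) * 3 ^ (n - 2) ≤ Fl * 3 ^ (n - 2) := by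
      calc _ ≤ (n - 1) * Fl := hsum
        _ ≤ 3 ^ (n - 2) * Fl := Nat.mul_le_mul_right _ hle
        _ = Fl * 3 ^ (n - 2) := mul_comm _ _
    exact Nat.le_of_mul_le_mul_right h9 h3pos
  · intro hn3
    have hlt := nc_arithc_pow n hn3
    have h9 : (∑ m ∈ Finset.Ioo 0 n, N m) * 3 ^ (n - 2) < Fl * 3 ^ (n - 2) := by
      calc _ ≤ (n - 1) * Fl := hsum
        _ < 3 ^ (n - 2) * Fl := Nat.mul_lt_mul_of_pos_right hlt hFlpos
        _ = Fl * 3 ^ (n - 2) := mul_comm _ _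
    exact Nat.lt_of_mul_lt_mul_right h9

end Cfsg.Agent.Helper17.NC
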