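import Cfsg.Agent.Lib.Helper17.NCBasic

/-!
# S3894 piece NC-CARDB (helper24): the order of the Borel subgroup of `GL_n(q)` and Lagrange
-/

set_option autoImplicit false

namespace Cfsg.Agent.Helper17.NC

open Matrix

variable {F : Type*} [Field F] [Fintype F] {n : ℕ}

/-- the admissible values of the entry `(i, j)` of an upper triangular invertible matrix -/
noncomputable def nc_cardb_S [DecidableEq F] (i j : Fin n) : Finset F :=
  if j < i then {0} else if i = j then Finset.univ.erase 0 else Finset.univ

theorem nc_cardb_mem_S [DecidableEq F] (i j : Fin n) (x : F) :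
    x ∈ nc_cardb_S (F := F) i j ↔ (j < i → x = 0) ∧ (i = j → x ≠ 0) := by
  unfold nc_cardb_S
  by_cases h1 : j < i
  · rw [if_pos h1, Finset.mem_singleton]
    constructor
    · intro h
      exact ⟨fun _ => h, fun h2 => absurd h1 (by rw [h2]; exact lt_irrefl _)⟩
    · intro h
      exact h.1 h1
  · rw [if_neg h1]
    by_cases h2 : i = j
    · rw [if_pos h2, Finset.mem_erase]
      constructor
      · intro h
        exact ⟨fun h3 => absurd h3 h1, fun _ => h.1⟩
      · intro h
        exact ⟨h.2 h2, Finset.mem_univ _⟩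
    · rw [if_neg h2]
      constructor
      · intro _
        exact ⟨fun h3 => absurd h3 h1, fun h3 => absurd h3 h2⟩
      · intro _
        exact Finset.mem_univ _

theorem nc_cardb_card_S [DecidableEq F] (i j : Fin n) :
    (nc_cardb_S (F := F) i j).card =
      (if j = i then Fintype.card F - 1 else 1) * (if i < j then Fintype.card F else 1) := by
  unfold nc_cardb_S
  by_cases h1 : j < i
  · rw [if_pos h1, Finset.card_singleton, if_neg (ne_of_lt h1), if_neg (not_lt.mpr h1.le)]
  · rw [if_neg h1]
    by_cases h2 : i = j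
    · rw [if_pos h2, if_pos h2.symm, Finset.card_erase_of_mem (Finset.mem_univ _), Finset.card_univ,
        if_neg (by rw [h2]; exact lt_irrefl _), mul_one]
    · rw [if_neg h2, if_neg (fun h => h2 h.symm), Finset.card_univ, one_mul, if_pos]
      exact lt_of_le_of_ne (not_lt.mp h1) h2

/-- the set of upper triangular matrices with non-zero diagonal entries -/
noncomputable def nc_cardb_T [DecidableEq F] (n : ℕ) : Finset (Fin n → Fin n → F) :=
  Fintype.piFinset fun i => Fintype.piFinset fun j => nc_cardb_S (F := F) i j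

theorem nc_cardb_mem_T [DecidableEq F] (M : Fin n → Fin n → F) :
    M ∈ nc_cardb_T (F := F) n ↔ (Matrix.of M).BlockTriangular id ∧ ∀ i, M i i ≠ 0 := by
  unfold nc_cardb_T
  rw [Fintype.mem_piFinset]
  constructor
  · intro h
    refine ⟨?_, ?_⟩
    · intro i j hji
      have h1 := Fintype.mem_piFinset.mp (h i) j
      exact ((nc_cardb_mem_S i j (M i j)).mp h1).1 hji
    · intro i
      have h1 := Fintype.mem_piFinset.mp (h i) i
      exact ((nc_cardb_mem_S i i (M i i)).mp h1).2 rfl
  · rintro ⟨h1, h2⟩ i
    rw [Fintype.mem_piFinset]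
    intro j
    rw [nc_cardb_mem_S]
    refine ⟨fun hji => h1 hji, fun hij => ?_⟩
    subst hij
    exact h2 i

theorem nc_cardb_card_T [DecidableEq F] :
    (nc_cardb_T (F := F) n).card =
      (Fintype.card F - 1) ^ n * Fintype.card F ^ (n * (n - 1) / 2) := by
  unfold nc_cardb_T
  rw [Fintype.card_piFinset]
  have hrow : ∀ i : Fin n, (Fintype.piFinset fun j => nc_cardb_S (F := F) i j).card =
      (Fintype.card F - 1) * Fintype.card F ^ (n - 1 - (i : ℕ)) := by
    intro i
    rw [Fintype.card_piFinset]
    simp_rw [nc_cardb_card_S]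
    rw [Finset.prod_mul_distrib, Finset.prod_ite_eq' Finset.univ i, if_pos (Finset.mem_univ _),
      Finset.prod_ite, Finset.prod_const_one, mul_one, Finset.prod_const,
      Finset.filter_lt_eq_Ioi, Fin.card_Ioi]
  simp_rw [hrow]
  rw [Finset.prod_mul_distrib, Finset.prod_const, Finset.card_univ, Fintype.card_fin,
    Finset.prod_pow_eq_pow_sum]
  congr 2
  rw [Fin.sum_univ_eq_sum_range (fun i => n - 1 - i) n, Finset.sum_range_reflect (fun i => i) n,
    Finset.sum_range_id]

/-- the Borel subgroup is in bijection with `nc_cardb_T` -/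
noncomputable def nc_cardb_equiv [DecidableEq F] :
    ↥(Cfsg.upperTriangularGL n F) ≃ {M : Fin n → Fin n → F // M ∈ nc_cardb_T (F := F) n} where
  toFun g := ⟨fun i j => (g.1 : Matrix (Fin n) (Fin n) F) i j, by
    rw [nc_cardb_mem_T]
    have hbt : (g.1 : Matrix (Fin n) (Fin n) F).BlockTriangular id := g.2
    refine ⟨hbt, ?_⟩
    have hdet : (g.1 : Matrix (Fin n) (Fin n) F).det ≠ 0 := by
      have h1 : IsUnit (g.1 : Matrix (Fin n) (Fin n) F).det :=
        (Matrix.isUnit_iff_isUnit_det _).mp g.1.isUnit
      exact h1.ne_zero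
    rw [Matrix.det_of_isUpperTriangular hbt] at hdet
    intro i
    exact (Finset.prod_ne_zero_iff.mp hdet) i (Finset.mem_univ _)⟩
  invFun M := ⟨Matrix.GeneralLinearGroup.mkOfDetNeZero (Matrix.of M.1) (by
      have h := (nc_cardb_mem_T M.1).mp M.2
      rw [Matrix.det_of_isUpperTriangular h.1]
      exact Finset.prod_ne_zero_iff.mpr (fun i _ => h.2 i)), by
    have h := (nc_cardb_mem_T M.1).mp M.2
    exact h.1⟩
  left_inv g := by
    apply Subtype.ext
    apply Units.ext
    rfl
  right_inv M := by
    apply Subtype.ext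
    rfl

/-- NC-CARDB (1/2) -/
theorem card_borel :
    Nat.card ↥(Cfsg.upperTriangularGL n F) =
      (Fintype.card F - 1) ^ n * Fintype.card F ^ (n * (n - 1) / 2) := by
  classical
  rw [Nat.card_congr (nc_cardb_equiv (F := F) (n := n)), Nat.card_eq_fintype_card,
    Fintype.card_coe, nc_cardb_card_T]

/-- NC-CARDB (2/2) -/
theorem card_flag_mul :
    Nat.card (Flag n F) * ((Fintype.card F - 1) ^ n * Fintype.card F ^ (n * (n - 1) / 2)) =
      ∏ i : Fin n, (Fintype.card F ^ n - Fintype.card F ^ (i : ℕ)) := by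
  rw [← card_borel, ← Matrix.card_GL_field]
  exact (Subgroup.card_eq_card_quotient_mul_card_subgroup (Cfsg.upperTriangularGL n F)).symm

end Cfsg.Agent.Helper17.NC
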