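import Cfsg.Agent.Lib.Helper17.NCDefs

/-!
# S3894 piece NC-SUBCARD (helper22): the number of proper nonzero subspaces of `F^n`, sorted by dimension.
-/

set_option autoImplicit false
set_option linter.unusedSectionVars false
set_option linter.unusedVariables false

namespace Cfsg.Agent.Helper17.NC

open Matrix

variable {F : Type*} [Field F] [Fintype F] {n : ℕ}

theorem nc_subcard_ne_bot_top_iff (W : Submodule F (Fin n → F)) :
    (W ≠ ⊥ ∧ W ≠ ⊤) ↔ Module.finrank F W ∈ Finset.Ioo 0 n := by
  rw [Finset.mem_Ioo]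
  have hle : Module.finrank F W ≤ n := by
    have := Submodule.finrank_le W
    rwa [Module.finrank_fin_fun] at this
  constructor
  · rintro ⟨h1, h2⟩
    refine ⟨Nat.pos_of_ne_zero (fun h => h1 (Submodule.finrank_eq_zero.1 h)), ?_⟩
    refine lt_of_le_of_ne hle (fun h => h2 ?_)
    apply Submodule.eq_top_of_finrank_eq
    rw [h, Module.finrank_fin_fun]
  · rintro ⟨h1, h2⟩
    refine ⟨?_, ?_⟩
    · rintro rfl
      rw [finrank_bot] at h1
      exact lt_irrefl 0 h1
    · rintro rfl
      rw [finrank_top, Module.finrank_fin_fun] at h2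
      exact lt_irrefl n h2

/-- the sorting equivalence. -/
noncomputable def nc_subcard_equiv :
    Sub n F ≃ Σ m : ↥(Finset.Ioo 0 n),
      {W : Submodule F (Fin n → F) // Module.finrank F W = (m : ℕ)} where
  toFun W := ⟨⟨Module.finrank F W.1, (nc_subcard_ne_bot_top_iff W.1).1 W.2⟩, ⟨W.1, rfl⟩⟩
  invFun x := ⟨x.2.1, (nc_subcard_ne_bot_top_iff x.2.1).2 (by rw [x.2.2]; exact x.1.2)⟩
  left_inv W := Subtype.ext rfl
  right_inv x := by
    obtain ⟨⟨m, hm⟩, ⟨W, h⟩⟩ := x
    change Module.finrank F W = m at h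
    subst h
    rfl

/-- NC-SUBCARD -/
theorem card_sub (hn : 1 ≤ n) :
    Nat.card (Sub n F) = ∑ m ∈ Finset.Ioo 0 n,
      Nat.card {W : Submodule F (Fin n → F) // Module.finrank F W = m} := by
  classical
  have hfin : Finite (Submodule F (Fin n → F)) :=
    Finite.of_injective (fun W => (W : Set (Fin n → F))) SetLike.coe_injective
  rw [Nat.card_congr nc_subcard_equiv, Nat.card_sigma]
  exact Finset.sum_coe_sort (Finset.Ioo 0 n)
    (fun m => Nat.card {W : Submodule F (Fin n → F) // Module.finrank F W = m})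

end Cfsg.Agent.Helper17.NC
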