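import Cfsg.Agent.Lib.Helper17.NCBasic
import Cfsg.Agent.Lib.NC.NCSUBCARD
import Cfsg.Agent.Lib.NC.NCCARDB
import Cfsg.Agent.Lib.NC.NCARITHC
import Cfsg.Agent.Lib.Helper13.SubspaceCount

/-! # S3894 piece NC-COUNT: fewer proper subspaces than complete flags -/

set_option autoImplicit false

namespace Cfsg.Agent.Helper17.NC

open Matrix

variable {F : Type*} [Field F] [Fintype F] {n : ℕ}

theorem nc_count_both (hn : 2 ≤ n) :
    Nat.card (Sub n F) ≤ Nat.card (Flag n F) ∧ (3 ≤ n → Nat.card (Sub n F) < Nat.card (Flag n F)) := by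
  have hq : 2 ≤ Fintype.card F := Fintype.one_lt_card
  have hfin : Module.finrank F (Fin n → F) = n := by
    rw [Module.finrank_fintype_fun_eq_card, Fintype.card_fin]
  rw [card_sub (F := F) (n := n) (by omega)]
  exact arith_main (Fintype.card F) n hq hn
    (fun m => Nat.card {W : Submodule F (Fin n → F) // Module.finrank F W = m})
    (Nat.card (Flag n F))
    (fun m _ hmn => Cfsg.Agent.Helper13.SubCnt.card_subspaces_mul' (F := F) (V := Fin n → F)
      n m hfin hmn.le)
    card_flag_mul

/-- NC-COUNT -/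
theorem count_le (hn : 2 ≤ n) : Nat.card (Sub n F) ≤ Nat.card (Flag n F) :=
  (nc_count_both hn).1

/-- NC-COUNT -/
theorem count_lt (hn : 3 ≤ n) : Nat.card (Sub n F) < Nat.card (Flag n F) :=
  (nc_count_both (by omega)).2 hn

end Cfsg.Agent.Helper17.NC
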