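import Cfsg.Agent.Lib.Helper17.NCBasic

/-!
# S3894 piece NC-COVER1 (helper3): `g ∈ GL_n(F)` without invariant proper nonzero subspace ⇒ `F[g]` is a field.
-/

set_option autoImplicit false
set_option linter.unusedSectionVars false
set_option linter.unusedVariables false

namespace Cfsg.Agent.Helper17.NC

open Matrix

variable {F : Type*} [Field F] [Fintype F] {n : ℕ}

/-- elements of `F[g]` commute -/
theorem nc_cover1_comm (g : Matrix (Fin n) (Fin n) F) (a b : Matrix (Fin n) (Fin n) F)
    (ha : a ∈ Algebra.adjoin F {g}) (hb : b ∈ Algebra.adjoin F {g}) : a * b = b * a := by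
  rw [Algebra.adjoin_singleton_eq_range_aeval] at ha hb
  obtain ⟨p, rfl⟩ := ha
  obtain ⟨q, rfl⟩ := hb
  show (Polynomial.aeval g) p * (Polynomial.aeval g) q = (Polynomial.aeval g) q * (Polynomial.aeval g) p
  rw [← map_mul, ← map_mul, mul_comm]

/-- NC-COVER1 -/
theorem adjoin_isField (hn : 1 ≤ n) (g : GL (Fin n) F)
    (hno : ∀ W : Submodule F (Fin n → F),
      (∀ w ∈ W, (g : Matrix (Fin n) (Fin n) F).mulVec w ∈ W) → W = ⊥ ∨ W = ⊤) :
    IsField ↥(Algebra.adjoin F {(g : Matrix (Fin n) (Fin n) F)}) := by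
  classical
  have : Nonempty (Fin n) := ⟨⟨0, hn⟩⟩
  have hgmem : (g : Matrix (Fin n) (Fin n) F) ∈ Algebra.adjoin F {(g : Matrix (Fin n) (Fin n) F)} :=
    Algebra.subset_adjoin (Set.mem_singleton _)
  refine ⟨⟨0, 1, ?_⟩, ?_, ?_⟩
  · intro h
    have h' : (0 : Matrix (Fin n) (Fin n) F) = 1 := congrArg Subtype.val h
    exact zero_ne_one h'
  · intro a b
    apply Subtype.ext
    exact nc_cover1_comm _ a.1 b.1 a.2 b.2
  · intro a ha
    have ha0 : (a : Matrix (Fin n) (Fin n) F) ≠ 0 := by
      intro h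
      apply ha
      exact Subtype.ext h
    have hcomm : (a : Matrix (Fin n) (Fin n) F) * (g : Matrix (Fin n) (Fin n) F)
        = (g : Matrix (Fin n) (Fin n) F) * (a : Matrix (Fin n) (Fin n) F) :=
      nc_cover1_comm _ _ _ a.2 hgmem
    -- the kernel of `a` is `g`-invariant
    have hker := hno (LinearMap.ker (Matrix.toLin' (a : Matrix (Fin n) (Fin n) F))) (by
      intro w hw
      rw [LinearMap.mem_ker, Matrix.toLin'_apply] at hw ⊢
      rw [Matrix.mulVec_mulVec, hcomm, ← Matrix.mulVec_mulVec, hw, Matrix.mulVec_zero])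
    have hunit : IsUnit (a : Matrix (Fin n) (Fin n) F) := by
      rcases hker with hbot | htop
      · rw [← Matrix.mulVec_injective_iff_isUnit]
        have hinj : Function.Injective (Matrix.toLin' (a : Matrix (Fin n) (Fin n) F)) :=
          LinearMap.ker_eq_bot.1 hbot
        intro v w hvw
        apply hinj
        rw [Matrix.toLin'_apply, Matrix.toLin'_apply]
        exact hvw
      · exfalso
        apply ha0
        have h0 : Matrix.toLin' (a : Matrix (Fin n) (Fin n) F) = 0 := LinearMap.ker_eq_top.1 htop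
        exact (LinearEquiv.map_eq_zero_iff _).1 h0
    obtain ⟨u, hu⟩ := hunit
    have hinv : ((u⁻¹ : GL (Fin n) F) : Matrix (Fin n) (Fin n) F)
        ∈ Algebra.adjoin F {(g : Matrix (Fin n) (Fin n) F)} := by
      rw [inv_eq_pow, Units.val_pow_eq_pow_val, hu]
      exact Subalgebra.pow_mem _ a.2 _
    refine ⟨⟨_, hinv⟩, ?_⟩
    apply Subtype.ext
    show (a : Matrix (Fin n) (Fin n) F) * ((u⁻¹ : GL (Fin n) F) : Matrix (Fin n) (Fin n) F) = 1
    rw [← hu, ← Units.val_mul, mul_inv_cancel, Units.val_one]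

end Cfsg.Agent.Helper17.NC
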