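import Mathlib

/-!
# S3894 piece NC-COVER2 (helper22): if `g` has no proper nonzero invariant subspace then
`F[g]` has dimension `n` (orbit map `a ↦ a v`).
-/

set_option autoImplicit false
set_option linter.unusedSectionVars false

namespace Cfsg.Agent.Helper17.NC

open Matrix

variable {F : Type*} [Field F] [Fintype F] {n : ℕ}

omit [Fintype F] in
theorem nc_cover2_commute (M : Matrix (Fin n) (Fin n) F) {a : Matrix (Fin n) (Fin n) F}
    (ha : a ∈ Algebra.adjoin F {M}) : a * M = M * a := by
  induction ha using Algebra.adjoin_induction with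
  | mem x hx =>
    rw [Set.mem_singleton_iff] at hx
    rw [hx]
  | algebraMap r => exact Algebra.commutes r M
  | add x y _ _ hx hy => rw [add_mul, mul_add, hx, hy]
  | mul x y _ _ hx hy => rw [mul_assoc, hy, ← mul_assoc, hx, mul_assoc]

/-- NC-COVER2 -/
theorem adjoin_finrank (hn : 1 ≤ n) (g : GL (Fin n) F)
    (hno : ∀ W : Submodule F (Fin n → F),
      (∀ w ∈ W, (g : Matrix (Fin n) (Fin n) F).mulVec w ∈ W) → W = ⊥ ∨ W = ⊤) :
    Module.finrank F ↥(Algebra.adjoin F {(g : Matrix (Fin n) (Fin n) F)}) = n := by
  classical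
  set M : Matrix (Fin n) (Fin n) F := (g : Matrix (Fin n) (Fin n) F) with hM
  -- a nonzero vector
  set v : Fin n → F := Pi.single (⟨0, hn⟩ : Fin n) 1 with hv
  have hv0 : v ≠ 0 := by
    intro h
    have := congrFun h ⟨0, hn⟩
    simp [hv] at this
  -- the orbit map
  let φ : ↥(Algebra.adjoin F {M}) →ₗ[F] (Fin n → F) :=
    { toFun := fun a => (a : Matrix (Fin n) (Fin n) F).mulVec v
      map_add' := fun a b => by
        simp only [Subalgebra.coe_add, Matrix.add_mulVec]
      map_smul' := fun c a => by
        simp only [Subalgebra.coe_smul, Matrix.smul_mulVec, RingHom.id_apply] }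
  have hφ : ∀ a : ↥(Algebra.adjoin F {M}), φ a = (a : Matrix (Fin n) (Fin n) F).mulVec v :=
    fun _ => rfl
  -- injective
  have hinj : Function.Injective φ := by
    rw [injective_iff_map_eq_zero]
    intro a ha
    rw [hφ] at ha
    have hcomm := nc_cover2_commute M a.2
    have hW := hno (LinearMap.ker (Matrix.mulVecLin (a : Matrix (Fin n) (Fin n) F))) (by
      intro w hw
      rw [LinearMap.mem_ker, Matrix.mulVecLin_apply] at hw ⊢
      rw [Matrix.mulVec_mulVec, hcomm, ← Matrix.mulVec_mulVec, hw, Matrix.mulVec_zero])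
    rcases hW with hW | hW
    · exfalso
      have : v ∈ LinearMap.ker (Matrix.mulVecLin (a : Matrix (Fin n) (Fin n) F)) := by
        rw [LinearMap.mem_ker, Matrix.mulVecLin_apply]; exact ha
      rw [hW, Submodule.mem_bot] at this
      exact hv0 this
    · apply Subtype.ext
      rw [Matrix.ext_iff_mulVec]
      intro w
      have : w ∈ LinearMap.ker (Matrix.mulVecLin (a : Matrix (Fin n) (Fin n) F)) := by
        rw [hW]; exact Submodule.mem_top
      rw [LinearMap.mem_ker, Matrix.mulVecLin_apply] at this
      rw [this]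
      simp
  -- surjective
  have hsurj : Function.Surjective φ := by
    rw [← LinearMap.range_eq_top]
    have hR := hno (LinearMap.range φ) (by
      rintro w ⟨a, rfl⟩
      refine ⟨⟨M * (a : Matrix (Fin n) (Fin n) F),
        mul_mem (Algebra.subset_adjoin (Set.mem_singleton M)) a.2⟩, ?_⟩
      rw [hφ, hφ, Matrix.mulVec_mulVec])
    rcases hR with hR | hR
    · exfalso
      have : v ∈ LinearMap.range φ := ⟨1, by rw [hφ]; simp⟩
      rw [hR, Submodule.mem_bot] at this
      exact hv0 this
    · exact hR
  have e := (LinearEquiv.ofBijective φ ⟨hinj, hsurj⟩).finrank_eq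
  rw [e, Module.finrank_fin_fun]

end Cfsg.Agent.Helper17.NC
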