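import Cfsg.Agent.Lib.Helper17.NCBasic
import Cfsg.Agent.Lib.NC.NCCOVER1
import Cfsg.Agent.Lib.NC.NCCOVER2

/-! # S3894 piece NC-COVER3: every element of `GL_n` stabilises a proper subspace or lies in a
Singer torus -/

set_option autoImplicit false

namespace Cfsg.Agent.Helper17.NC

open Matrix

variable {F : Type*} [Field F] [Fintype F] {n : ℕ}

/-- invariance under `g` gives invariance under its powers. -/
theorem nc_cover3_pow (g : GL (Fin n) F) (W : Submodule F (Fin n → F))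
    (h : ∀ w ∈ W, (g : Matrix (Fin n) (Fin n) F).mulVec w ∈ W) (m : ℕ) :
    ∀ w ∈ W, ((g ^ m : GL (Fin n) F) : Matrix (Fin n) (Fin n) F).mulVec w ∈ W := by
  induction m with
  | zero =>
    intro w hw
    rw [pow_zero, Units.val_one, Matrix.one_mulVec]
    exact hw
  | succ m ih =>
    intro w hw
    rw [pow_succ, Units.val_mul, ← Matrix.mulVec_mulVec]
    exact ih _ (h w hw)

/-- NC-COVER3 -/
theorem cover (hn : 1 ≤ n) (g : GL (Fin n) F) :
    (∃ W : Sub n F, g ∈ stab W.1) ∨ (∃ K : Tor n F, g ∈ torSub K.1) := by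
  by_cases h : ∃ W : Submodule F (Fin n → F),
      (∀ w ∈ W, (g : Matrix (Fin n) (Fin n) F).mulVec w ∈ W) ∧ W ≠ ⊥ ∧ W ≠ ⊤
  · obtain ⟨W, hW, h0, h1⟩ := h
    left
    refine ⟨⟨W, h0, h1⟩, ?_⟩
    intro w hw
    refine ⟨hW w hw, ?_⟩
    rw [inv_eq_pow]
    exact nc_cover3_pow g W hW _ w hw
  · right
    have hno : ∀ W : Submodule F (Fin n → F),
        (∀ w ∈ W, (g : Matrix (Fin n) (Fin n) F).mulVec w ∈ W) → W = ⊥ ∨ W = ⊤ := by
      intro W hW
      by_contra hcon
      rw [not_or] at hcon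
      exact h ⟨W, hW, hcon.1, hcon.2⟩
    refine ⟨⟨Algebra.adjoin F {(g : Matrix (Fin n) (Fin n) F)}, adjoin_isField hn g hno,
      adjoin_finrank hn g hno⟩, ?_⟩
    exact mem_torSub_of_mem _ g (Algebra.subset_adjoin (Set.mem_singleton _))

end Cfsg.Agent.Helper17.NC
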