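import Cfsg.Agent.Lib.Helper17.NCBasic

/-!
# S3894 piece NC-EXGEN: a generator of the norm-one part of a Singer field.
-/

set_option autoImplicit false

namespace Cfsg.Agent.Helper17.NC

open Matrix

variable {F : Type*} [Field F] [Fintype F] {n : ℕ}

/-- the unit group of a Singer field has an element of order `q ^ n - 1`. -/
theorem nc_exgen_units (L : Subalgebra F (Matrix (Fin n) (Fin n) F)) (hL : IsField ↥L)
    (hr : Module.finrank F ↥L = n) :
    ∃ g : (↥L)ˣ, orderOf g = Fintype.card F ^ n - 1 := by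
  classical
  have hcard : Nat.card ↥L = Fintype.card F ^ n := by
    rw [Module.natCard_eq_pow_finrank (K := F), hr, Nat.card_eq_fintype_card]
  let _ : Field ↥L := hL.toField
  obtain ⟨g, hg⟩ := IsCyclic.exists_generator (α := (↥L)ˣ)
  have h1 : orderOf g = Nat.card (↥L)ˣ := orderOf_eq_card_of_forall_mem_zpowers hg
  have h2 : Nat.card (↥L)ˣ = Nat.card ↥L - 1 := Nat.card_units ↥L
  refine ⟨g, ?_⟩
  rw [← hcard]
  exact h1.trans h2

/-- NC-EXGEN: a generator of the norm-one part of `K^×`. -/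
theorem exists_tor_elt (hn : 1 ≤ n) (K : Tor n F) :
    ∃ t : GL (Fin n) F, t ∈ torSub K.1 ∧ Matrix.GeneralLinearGroup.det t = 1 ∧
      orderOf t = (Fintype.card F ^ n - 1) / (Fintype.card F - 1) := by
  classical
  obtain ⟨g, hg⟩ := nc_exgen_units K.1 K.2.1 K.2.2
  set q := Fintype.card F with hq
  have hq2 : 2 ≤ q := by
    have := Fintype.one_lt_card (α := F)
    omega
  -- the inclusion of unit groups
  let f : (↥K.1)ˣ →* GL (Fin n) F := Units.map (K.1.val : ↥K.1 →* Matrix (Fin n) (Fin n) F)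
  have hf : Function.Injective f := by
    intro a b hab
    apply Units.ext
    have := congrArg (fun u : GL (Fin n) F => (u : Matrix (Fin n) (Fin n) F)) hab
    exact Subtype.ext this
  have hdvd : (q - 1) ∣ q ^ n - 1 := by
    simpa only [one_pow] using Nat.sub_dvd_pow_sub_pow q 1 n
  have hq1 : q - 1 ≠ 0 := by omega
  refine ⟨f (g ^ (q - 1)), ?_, ?_, ?_⟩
  · apply mem_torSub_of_mem
    change ((g ^ (q - 1) : (↥K.1)ˣ) : ↥K.1).1 ∈ K.1
    exact ((g ^ (q - 1) : (↥K.1)ˣ) : ↥K.1).2
  · rw [map_pow, map_pow]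
    have := FiniteField.pow_card_sub_one_eq_one
      ((Matrix.GeneralLinearGroup.det (f g) : Fˣ) : F) (Units.ne_zero _)
    apply Units.ext
    rw [Units.val_pow_eq_pow_val, Units.val_one]
    exact this
  · rw [orderOf_injective f hf, orderOf_pow_of_dvd hq1 (hg ▸ hdvd), hg]

end Cfsg.Agent.Helper17.NC
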