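import Cfsg.Agent.Lib.Helper17.NCBasic

/-!
# S3894, PIECE NC-SUBF (helper6, for helper17): a subalgebra `L` of a Singer field is a field with
`q ^ k` elements, `k = finrank L`.
-/

set_option autoImplicit false

namespace Cfsg.Agent.Helper17.NC

open Matrix

variable {F : Type*} [Field F] [Fintype F] {n : ℕ}

/-- NC-SUBF: a subalgebra `L` of a Singer field is a field with `q^k` elements,
`k = finrank L`. -/
theorem subfield_facts (K : Tor n F) (L : Subalgebra F (Matrix (Fin n) (Fin n) F))
    (hL : L ≤ K.1) :
    0 < Module.finrank F L ∧ (L ≠ K.1 → Module.finrank F L < n) ∧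
    ∀ z : GL (Fin n) F, (z : Matrix (Fin n) (Fin n) F) ∈ L →
      z ^ (Fintype.card F ^ (Module.finrank F L) - 1) = 1 := by
  classical
  have hKdom : IsDomain K.1 := K.2.1.isDomain
  have hLdom : IsDomain L :=
    Function.Injective.isDomain (Subalgebra.inclusion hL) (Subalgebra.inclusion_injective hL)
  have hfinM : Finite (Matrix (Fin n) (Fin n) F) := inferInstance
  have hfinL : Finite L := Subtype.finite
  have instL : Fintype L := Fintype.ofFinite L
  have hmodfin : Module.Finite F L := Module.Finite.of_finite
  refine ⟨?_, ?_, ?_⟩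
  · exact Module.finrank_pos_iff.mpr inferInstance
  · intro hne
    have hlt : Subalgebra.toSubmodule L < Subalgebra.toSubmodule K.1 :=
      (Subalgebra.toSubmodule.lt_iff_lt).mpr (lt_of_le_of_ne hL hne)
    have hfinK : Finite K.1 := Subtype.finite
    have hmodfinK : Module.Finite F (Subalgebra.toSubmodule K.1) := Module.Finite.of_finite
    have h := Submodule.finrank_lt_finrank_of_lt hlt
    rw [Subalgebra.finrank_toSubmodule, Subalgebra.finrank_toSubmodule, K.2.2] at h
    exact h
  · intro z hz
    let _divL : DivisionRing L := Fintype.divisionRingOfIsDomain L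
    have hz0 : (⟨(z : Matrix (Fin n) (Fin n) F), hz⟩ : L) ≠ 0 := by
      intro h0
      have h1 : (z : Matrix (Fin n) (Fin n) F) = 0 := congrArg Subtype.val h0
      have h2 : (1 : L) = 0 := by
        apply Subtype.ext
        have : ((z⁻¹ * z : GL (Fin n) F) : Matrix (Fin n) (Fin n) F) = 1 := by
          rw [inv_mul_cancel, Units.val_one]
        rw [Units.val_mul, h1, Matrix.mul_zero] at this
        simpa using this.symm
      exact one_ne_zero h2
    have hpow := FiniteField.pow_card_sub_one_eq_one (⟨(z : Matrix (Fin n) (Fin n) F), hz⟩ : L) hz0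
    rw [Module.card_eq_pow_finrank (K := F) (V := L)] at hpow
    apply Units.ext
    rw [Units.val_pow_eq_pow_val, Units.val_one]
    have := congrArg Subtype.val hpow
    simpa using this

end Cfsg.Agent.Helper17.NC
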