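import Cfsg.Agent.Lib.Helper17.NCBasic
import Cfsg.Agent.Lib.Helper15.Zsigmondy

/-!
# S3894 piece NC-ZSIG (helper3): weak Zsigmondy and a divisibility lemma.
-/

set_option autoImplicit false
set_option linter.unusedSectionVars false
set_option linter.unusedVariables false

namespace Cfsg.Agent.Helper17.NC

open Matrix

/-- NC-ZSIG (1/2): weak Zsigmondy (true also for `(q, n) = (2, 6)`). -/
theorem weak_zsig (q n : ℕ) (hq : 2 ≤ q) (hn : 3 ≤ n) (k : ℕ) (hk : 0 < k) (hkn : k < n) :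
    ∃ r : ℕ, r.Prime ∧ r ∣ q ^ n - 1 ∧ ¬ r ∣ q ^ k - 1 := by
  by_cases h6 : q = 2 ∧ n = 6
  · obtain ⟨rfl, rfl⟩ := h6
    have hk5 : k = 1 ∨ k = 2 ∨ k = 3 ∨ k = 4 ∨ k = 5 := by omega
    rcases hk5 with rfl | rfl | rfl | rfl | rfl
    · exact ⟨3, by norm_num, by norm_num, by norm_num⟩
    · exact ⟨7, by norm_num, by norm_num, by norm_num⟩
    · exact ⟨3, by norm_num, by norm_num, by norm_num⟩
    · exact ⟨7, by norm_num, by norm_num, by norm_num⟩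
    · exact ⟨3, by norm_num, by norm_num, by norm_num⟩
  · obtain ⟨r, hr, hrn, hrk⟩ := Cfsg.Agent.Helper15.Zsig.zsigmondy q n (by omega) (by omega) h6
      (by rintro ⟨h2, -⟩; omega)
    exact ⟨r, hr, hrn, hrk k hk hkn⟩

/-- NC-ZSIG (2/2) -/
theorem prime_dvd_quot (q n : ℕ) (hq : 2 ≤ q) (hn : 1 ≤ n) (r : ℕ) (hr : r.Prime)
    (h1 : r ∣ q ^ n - 1) (h2 : ¬ r ∣ q - 1) : r ∣ (q ^ n - 1) / (q - 1) := by
  have hdvd : q - 1 ∣ q ^ n - 1 := Nat.sub_one_dvd_pow_sub_one q n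
  obtain ⟨m, hm⟩ := hdvd
  have hpos : 0 < q - 1 := by omega
  rw [hm, Nat.mul_div_cancel_left m hpos]
  rw [hm] at h1
  rcases (Nat.Prime.dvd_mul hr).1 h1 with h | h
  · exact absurd h h2
  · exact h

end Cfsg.Agent.Helper17.NC
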