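import Cfsg.Agent.Lib.Helper17.NCBasic
import Cfsg.Agent.Lib.NC.NCSUBF
import Cfsg.Agent.Lib.NC.NCZSIG

/-! # S3894 piece NC-GEN3: a norm-one generator generates the Singer field (n ≥ 3) -/

set_option autoImplicit false

namespace Cfsg.Agent.Helper17.NC

open Matrix

variable {F : Type*} [Field F] [Fintype F] {n : ℕ}

theorem nc_gen3_card_ge : 2 ≤ Fintype.card F := Fintype.one_lt_card

/-- a prime dividing `q^n - 1` but not `q^k - 1` (`0 < k`) divides `(q^n - 1)/(q - 1)`. -/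
theorem nc_gen3_dvd (q n k r : ℕ) (hq : 2 ≤ q) (hn : 1 ≤ n) (hk : 0 < k) (hr : r.Prime)
    (h1 : r ∣ q ^ n - 1) (h2 : ¬ r ∣ q ^ k - 1) : r ∣ (q ^ n - 1) / (q - 1) := by
  apply prime_dvd_quot q n hq hn r hr h1
  intro h3
  apply h2
  have h4 : q - 1 ∣ q ^ k - 1 := by
    have := Nat.sub_dvd_pow_sub_pow q 1 k
    rwa [one_pow] at this
  exact dvd_trans h3 h4

/-- NC-GEN3 -/
theorem adjoin_eq_ge3 (hn : 3 ≤ n) (K : Tor n F) (t : GL (Fin n) F) (ht : t ∈ torSub K.1)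
    (hord : orderOf t = (Fintype.card F ^ n - 1) / (Fintype.card F - 1)) :
    Algebra.adjoin F {(t : Matrix (Fin n) (Fin n) F)} = K.1 := by
  by_contra hne
  have hle : Algebra.adjoin F {(t : Matrix (Fin n) (Fin n) F)} ≤ K.1 :=
    Algebra.adjoin_le (by
      intro x hx
      rw [Set.mem_singleton_iff] at hx
      rw [hx]
      exact ht.1)
  obtain ⟨hk0, hkn, hpow⟩ := subfield_facts K _ hle
  have hkn' := hkn hne
  obtain ⟨r, hr, hr1, hr2⟩ := weak_zsig (Fintype.card F) n nc_gen3_card_ge hn _ hk0 hkn'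
  have hr3 := nc_gen3_dvd _ n _ r nc_gen3_card_ge (by omega) hk0 hr hr1 hr2
  rw [← hord] at hr3
  have h1 := hpow t (Algebra.subset_adjoin (Set.mem_singleton _))
  exact hr2 (dvd_trans hr3 (orderOf_dvd_of_pow_eq_one h1))

end Cfsg.Agent.Helper17.NC
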