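import Cfsg.Agent.Lib.Helper17.NCBasic

/-!
# S3894, piece NC-STABP: scalars stabilise every subspace; `SL_n` (`n ≥ 2`) stabilises no proper nonzero
subspace (transvections).
-/

set_option autoImplicit false

namespace Cfsg.Agent.Helper17.NC

open Matrix

variable {F : Type*} [Field F] [Fintype F] {n : ℕ}

theorem nc_stabp_scalar_mulVec (W : Submodule F (Fin n → F)) {g : GL (Fin n) F}
    (hg : g ∈ Subgroup.center (GL (Fin n) F)) (w : Fin n → F) (hw : w ∈ W) :
    (g : Matrix (Fin n) (Fin n) F).mulVec w ∈ W := by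
  obtain ⟨a, ha⟩ := Matrix.GeneralLinearGroup.mem_center_iff_val_mem_range_scalar.1 hg
  have : (g : Matrix (Fin n) (Fin n) F) = a • (1 : Matrix (Fin n) (Fin n) F) := by
    rw [← ha]
    ext i j
    simp [Matrix.scalar_apply, Matrix.diagonal_apply, Matrix.one_apply]
  rw [this, Matrix.smul_mulVec, Matrix.one_mulVec]
  exact W.smul_mem a hw

/-- NC-STABP (1/2) -/
theorem center_le_stab (W : Submodule F (Fin n → F)) :
    Subgroup.center (GL (Fin n) F) ≤ stab W := by
  intro g hg w hw
  exact ⟨nc_stabp_scalar_mulVec W hg w hw,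
    nc_stabp_scalar_mulVec W (Subgroup.inv_mem _ hg) w hw⟩

/-- if the transvections stabilise `W` and `w ∈ W` has `w j ≠ 0` then `e_i ∈ W` for `i ≠ j`. -/
theorem nc_stabp_single_mem (W : Submodule F (Fin n → F))
    (h : (Matrix.SpecialLinearGroup.toGL :
        Matrix.SpecialLinearGroup (Fin n) F →* GL (Fin n) F).range ≤ stab W)
    {w : Fin n → F} (hw : w ∈ W) {i j : Fin n} (hij : i ≠ j) (hwj : w j ≠ 0) :
    (Pi.single i (1 : F) : Fin n → F) ∈ W := by
  let t : Matrix.SpecialLinearGroup (Fin n) F :=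
    ⟨Matrix.transvection i j (w j)⁻¹, Matrix.det_transvection_of_ne i j hij _⟩
  have ht : Matrix.SpecialLinearGroup.toGL t ∈ stab W := h ⟨t, rfl⟩
  have h1 := (ht w hw).1
  have h2 : ((Matrix.SpecialLinearGroup.toGL t : GL (Fin n) F) :
      Matrix (Fin n) (Fin n) F).mulVec w = w + (Pi.single i (1 : F) : Fin n → F) := by
    show (Matrix.transvection i j (w j)⁻¹).mulVec w = _
    rw [Matrix.transvection, Matrix.add_mulVec, Matrix.one_mulVec, Matrix.single_mulVec_eq,
      inv_mul_cancel₀ hwj, one_smul]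
  rw [h2] at h1
  exact (W.add_mem_iff_right hw).1 h1

/-- NC-STABP (2/2) -/
theorem stab_proper (hn : 2 ≤ n) (W : Sub n F) :
    ¬ (Matrix.SpecialLinearGroup.toGL :
        Matrix.SpecialLinearGroup (Fin n) F →* GL (Fin n) F).range ≤ stab W.1 := by
  intro h
  obtain ⟨hbot, htop⟩ := W.2
  obtain ⟨w, hw, hw0⟩ := (Submodule.ne_bot_iff _).1 hbot
  have : ∃ j, w j ≠ 0 := by
    by_contra hcon
    push Not at hcon
    exact hw0 (funext hcon)
  obtain ⟨j, hj⟩ := this
  -- some `i ≠ j`
  obtain ⟨i, hij⟩ : ∃ i : Fin n, i ≠ j := by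
    by_cases hj0 : j.val = 0
    · refine ⟨⟨1, by omega⟩, ?_⟩
      intro h1
      have := congrArg Fin.val h1
      simp at this
      omega
    · refine ⟨⟨0, by omega⟩, ?_⟩
      intro h1
      have := congrArg Fin.val h1
      simp at this
      omega
  have hei : (Pi.single i (1 : F) : Fin n → F) ∈ W.1 := nc_stabp_single_mem W.1 h hw hij hj
  have hall : ∀ k : Fin n, (Pi.single k (1 : F) : Fin n → F) ∈ W.1 := by
    intro k
    by_cases hk : k = i
    · rw [hk]; exact hei
    · exact nc_stabp_single_mem W.1 h hei hk (by simp)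
  apply htop
  rw [eq_top_iff]
  intro v _
  have hv : v = ∑ k, v k • (Pi.single k (1 : F) : Fin n → F) := by
    ext l
    simp [Finset.sum_apply, Pi.single_apply]
  rw [hv]
  exact W.1.sum_mem (fun k _ => W.1.smul_mem _ (hall k))

end Cfsg.Agent.Helper17.NC
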