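import Cfsg.Agent.Lib.Helper17.NCBasic

/-!
# S3894 piece NC-TORP (helper3): the torus subgroups `torSub K` contain the centre and not `SL_n` (`n ≥ 2`).
-/

set_option autoImplicit false
set_option linter.unusedSectionVars false
set_option linter.unusedVariables false

namespace Cfsg.Agent.Helper17.NC

open Matrix

variable {F : Type*} [Field F] [Fintype F] {n : ℕ}

/-- NC-TORP (1/2) -/
theorem center_le_torSub (K : Subalgebra F (Matrix (Fin n) (Fin n) F)) :
    Subgroup.center (GL (Fin n) F) ≤ torSub K := by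
  have key : ∀ g : GL (Fin n) F, g ∈ Subgroup.center (GL (Fin n) F) →
      (g : Matrix (Fin n) (Fin n) F) ∈ K := by
    intro g hg
    rw [Matrix.GeneralLinearGroup.mem_center_iff_val_mem_range_scalar] at hg
    obtain ⟨c, hc⟩ := hg
    rw [← hc, Matrix.scalar_apply, ← Matrix.smul_one_eq_diagonal]
    exact K.smul_mem K.one_mem c
  intro g hg
  exact ⟨key g hg, key g⁻¹ (Subgroup.inv_mem _ hg)⟩

/-- NC-TORP (2/2) -/
theorem torSub_proper (hn : 2 ≤ n) (K : Tor n F) :
    ¬ (Matrix.SpecialLinearGroup.toGL :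
        Matrix.SpecialLinearGroup (Fin n) F →* GL (Fin n) F).range ≤ torSub K.1 := by
  intro hle
  let i0 : Fin n := ⟨0, by omega⟩
  let i1 : Fin n := ⟨1, by omega⟩
  have h01 : i0 ≠ i1 := by
    intro h
    have := congrArg Fin.val h
    simp [i0, i1] at this
  let t01 : Matrix (Fin n) (Fin n) F := Matrix.transvection i0 i1 1
  let t10 : Matrix (Fin n) (Fin n) F := Matrix.transvection i1 i0 1
  have hd01 : t01.det = 1 := Matrix.det_transvection_of_ne i0 i1 h01 1
  have hd10 : t10.det = 1 := Matrix.det_transvection_of_ne i1 i0 h01.symm 1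
  have hm01 : t01 ∈ K.1 := by
    have := hle ⟨(⟨t01, hd01⟩ : Matrix.SpecialLinearGroup (Fin n) F), rfl⟩
    exact this.1
  have hm10 : t10 ∈ K.1 := by
    have := hle ⟨(⟨t10, hd10⟩ : Matrix.SpecialLinearGroup (Fin n) F), rfl⟩
    exact this.1
  have hcomm : t01 * t10 = t10 * t01 := by
    have := K.2.1.mul_comm (⟨t01, hm01⟩ : ↥K.1) ⟨t10, hm10⟩
    exact congrArg Subtype.val this
  have h1 : (t01 * t10) i0 i0 = 1 + 1 := by
    rw [Matrix.transvection_mul_apply_same]
    simp [t10, Matrix.transvection, Matrix.single_apply_of_ne, h01.symm]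
  have h2 : (t10 * t01) i0 i0 = 1 := by
    rw [Matrix.transvection_mul_apply_of_ne _ _ _ _ h01]
    simp [t01, Matrix.transvection, Matrix.single_apply_of_ne, h01.symm]
  rw [hcomm, h2] at h1
  have : (1 : F) = 0 := by
    have := h1
    linear_combination -this
  exact one_ne_zero this

end Cfsg.Agent.Helper17.NC
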