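import Mathlib

/-!
# S3894, PIECE NC-ABS (helper6, for helper17): the abstract counting lemma.  If `Γ` is covered by `|I|`
proper subgroups and has `|J| > |I|` elements no two of which lie in a common nilpotent subgroup,
then `Γ` has no minimal cover by nilpotent subgroups.
-/

set_option autoImplicit false

namespace Cfsg.Agent.Helper17.NC

open Matrix

section abs

/-- NC-ABS -/
theorem abs_no_cover {Γ : Type*} [Group Γ] {I J : Type*} [Finite I] [Finite J]
    (B : I → Subgroup Γ) (hB : ∀ i, B i ≠ ⊤) (hcov : ∀ g : Γ, ∃ i, g ∈ B i)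
    (x : J → Γ)
    (hx : ∀ A : Subgroup Γ, Group.IsNilpotent ↥A → ∀ j j', x j ∈ A → x j' ∈ A → j = j')
    (hIJ : Nat.card I < Nat.card J) :
    ¬ ∃ 𝓐 : Finset (Subgroup Γ), ((∀ A ∈ 𝓐, A ≠ ⊤) ∧ (∀ g : Γ, ∃ A ∈ 𝓐, g ∈ A)) ∧
      (∀ 𝓑 : Finset (Subgroup Γ), (∀ A ∈ 𝓑, A ≠ ⊤) ∧ (∀ g : Γ, ∃ A ∈ 𝓑, g ∈ A) →
        𝓐.card ≤ 𝓑.card) ∧
      (∀ A ∈ 𝓐, Group.IsNilpotent ↥A) := by
  classical
  rintro ⟨𝓐, ⟨hne, hcovA⟩, hmin, hnil⟩
  have instI := Fintype.ofFinite I
  have instJ := Fintype.ofFinite J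
  have h1 : 𝓐.card ≤ (Finset.univ.image B).card := by
    apply hmin
    refine ⟨?_, ?_⟩
    · intro A hA
      obtain ⟨i, -, rfl⟩ := Finset.mem_image.1 hA
      exact hB i
    · intro g
      obtain ⟨i, hi⟩ := hcov g
      exact ⟨B i, Finset.mem_image_of_mem _ (Finset.mem_univ i), hi⟩
  have h2 : (Finset.univ.image B).card ≤ Fintype.card I :=
    Finset.card_image_le.trans (by rw [Finset.card_univ])
  choose f hf using fun j => hcovA (x j)
  have hinj : Function.Injective (fun j => (⟨f j, (hf j).1⟩ : {A // A ∈ 𝓐})) := by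
    intro j j' h
    have hff : f j = f j' := congrArg Subtype.val h
    refine hx (f j) (hnil _ (hf j).1) j j' (hf j).2 ?_
    rw [hff]
    exact (hf j').2
  have h3 : Fintype.card J ≤ Fintype.card {A // A ∈ 𝓐} := Fintype.card_le_of_injective _ hinj
  rw [Fintype.card_coe] at h3
  rw [Nat.card_eq_fintype_card, Nat.card_eq_fintype_card] at hIJ
  omega

end abs

end Cfsg.Agent.Helper17.NC
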