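import Cfsg.Agent.Lib.Helper17.NCBasic

/-!
PIECE NC-TRNIL of S3894 (owner helper17): the preimage in `GL_n` of a nilpotent subgroup of
`G ≤ GL_n / centre` is nilpotent.
-/

set_option autoImplicit false

namespace Cfsg.Agent.Helper17.NC

open Matrix

variable {F : Type*} [Field F] [Fintype F] {n : ℕ}

/-- NC-TRNIL -/
theorem nilpotent_preimage (G : Subgroup (GL (Fin n) F ⧸ Subgroup.center (GL (Fin n) F)))
    (A : Subgroup ↥G) (hA : Group.IsNilpotent ↥A) :
    Group.IsNilpotent
      ↥((A.map G.subtype).comap (QuotientGroup.mk' (Subgroup.center (GL (Fin n) F)))) := by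
  have hK : Group.IsNilpotent ↥(A.map G.subtype) :=
    Group.nilpotent_of_mulEquiv (A.equivMapOfInjective G.subtype (Subgroup.subtype_injective G))
  apply Subgroup.isNilpotent_of_ker_le_center
    ((QuotientGroup.mk' (Subgroup.center (GL (Fin n) F))).subgroupComap (A.map G.subtype))
  intro x hx
  rw [MonoidHom.mem_ker] at hx
  have hx1 : (QuotientGroup.mk' (Subgroup.center (GL (Fin n) F))) (x : GL (Fin n) F) = 1 :=
    congrArg Subtype.val hx
  have hxZ : (x : GL (Fin n) F) ∈ Subgroup.center (GL (Fin n) F) :=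
    (QuotientGroup.eq_one_iff _).1 hx1
  rw [Subgroup.mem_center_iff]
  intro y
  apply Subtype.ext
  exact (Subgroup.mem_center_iff.1 hxZ) y

end Cfsg.Agent.Helper17.NC
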