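import Cfsg.Agent.Lib.Helper17.NCBasic
import Cfsg.Agent.Lib.NC.NCABS
import Cfsg.Agent.Lib.NC.NCTRNIL

/-! # S3894 piece NC-TRANS: transfer from `GL_n` to a group between `PSL_n` and `PGL_n` -/

set_option autoImplicit false

namespace Cfsg.Agent.Helper17.NC

open Matrix

variable {F : Type*} [Field F] [Fintype F] {n : ℕ}

/-- an element of determinant one lies in the image of `SL_n`. -/
theorem nc_trans_mem_range (g : GL (Fin n) F) (hg : Matrix.GeneralLinearGroup.det g = 1) :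
    g ∈ (Matrix.SpecialLinearGroup.toGL :
        Matrix.SpecialLinearGroup (Fin n) F →* GL (Fin n) F).range := by
  have hdet : (g : Matrix (Fin n) (Fin n) F).det = 1 := by
    have := congrArg (fun u : Fˣ => (u : F)) hg
    simpa using this
  refine ⟨⟨(g : Matrix (Fin n) (Fin n) F), hdet⟩, ?_⟩
  apply Units.ext
  rfl

/-- NC-TRANS -/
theorem transfer (G : Subgroup (GL (Fin n) F ⧸ Subgroup.center (GL (Fin n) F)))
    (hG : ((Matrix.SpecialLinearGroup.toGL :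
        Matrix.SpecialLinearGroup (Fin n) F →* GL (Fin n) F).range).map
      (QuotientGroup.mk' (Subgroup.center (GL (Fin n) F))) ≤ G)
    {I J : Type*} [Finite I] [Finite J]
    (B : I → Subgroup (GL (Fin n) F))
    (hBZ : ∀ i, Subgroup.center (GL (Fin n) F) ≤ B i)
    (hBS : ∀ i, ¬ (Matrix.SpecialLinearGroup.toGL :
        Matrix.SpecialLinearGroup (Fin n) F →* GL (Fin n) F).range ≤ B i)
    (hcov : ∀ g : GL (Fin n) F, ∃ i, g ∈ B i)
    (x : J → GL (Fin n) F) (hxS : ∀ j, Matrix.GeneralLinearGroup.det (x j) = 1)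
    (hx : ∀ A : Subgroup (GL (Fin n) F), Group.IsNilpotent ↥A →
      ∀ j j', x j ∈ A → x j' ∈ A → j = j')
    (hIJ : Nat.card I < Nat.card J) :
    ¬ ∃ 𝓐 : Finset (Subgroup ↥G), ((∀ A ∈ 𝓐, A ≠ ⊤) ∧ (∀ g : ↥G, ∃ A ∈ 𝓐, g ∈ A)) ∧
      (∀ 𝓑 : Finset (Subgroup ↥G), (∀ A ∈ 𝓑, A ≠ ⊤) ∧ (∀ g : ↥G, ∃ A ∈ 𝓑, g ∈ A) →
        𝓐.card ≤ 𝓑.card) ∧
      (∀ A ∈ 𝓐, Group.IsNilpotent ↥A) := by
  set π := QuotientGroup.mk' (Subgroup.center (GL (Fin n) F)) with hπ
  have hmemG : ∀ s : GL (Fin n) F, s ∈ (Matrix.SpecialLinearGroup.toGL :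
        Matrix.SpecialLinearGroup (Fin n) F →* GL (Fin n) F).range → π s ∈ G :=
    fun s hs => hG (Subgroup.mem_map_of_mem _ hs)
  -- the cover of `G`
  let B' : I → Subgroup ↥G := fun i => ((B i).map π).subgroupOf G
  -- the elements of `G`
  let x' : J → ↥G := fun j => ⟨π (x j), hmemG _ (nc_trans_mem_range _ (hxS j))⟩
  refine abs_no_cover B' ?_ ?_ x' ?_ hIJ
  · -- proper
    intro i htop
    apply hBS i
    intro s hs
    have h1 : (⟨π s, hmemG s hs⟩ : ↥G) ∈ B' i := by rw [htop]; trivial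
    rw [Subgroup.mem_subgroupOf] at h1
    obtain ⟨b, hb, hbs⟩ := Subgroup.mem_map.1 h1
    have h2 : b⁻¹ * s ∈ Subgroup.center (GL (Fin n) F) := by
      have : π b = π s := hbs
      exact QuotientGroup.eq.1 this
    have h3 : b * (b⁻¹ * s) ∈ B i := (B i).mul_mem hb (hBZ i h2)
    rwa [mul_inv_cancel_left] at h3
  · -- cover
    intro g
    obtain ⟨g0, hg0⟩ := QuotientGroup.mk'_surjective (Subgroup.center (GL (Fin n) F)) g.1
    obtain ⟨i, hi⟩ := hcov g0
    refine ⟨i, ?_⟩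
    rw [Subgroup.mem_subgroupOf]
    exact Subgroup.mem_map.2 ⟨g0, hi, hg0⟩
  · -- the pairwise property
    intro A hA j j' hj hj'
    apply hx _ (nilpotent_preimage G A hA) j j'
    · rw [Subgroup.mem_comap]
      exact Subgroup.mem_map.2 ⟨x' j, hj, rfl⟩
    · rw [Subgroup.mem_comap]
      exact Subgroup.mem_map.2 ⟨x' j', hj', rfl⟩

end Cfsg.Agent.Helper17.NC
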