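import Mathlib
import Cfsg.Agent.Lib.Helper17.NCBasic

/-!
# S3894 piece NC-CENT (helper1): the centraliser of a Singer field in the matrix algebra is the field.
-/

set_option autoImplicit false

namespace Cfsg.Agent.Helper17.NC

open Matrix

variable {F : Type*} [Field F] [Fintype F] {n : ℕ}

omit [Fintype F] in
/-- evaluation of a subalgebra of matrices at a vector -/
def nc_cent_ev (K : Subalgebra F (Matrix (Fin n) (Fin n) F)) (v : Fin n → F) :
    ↥K →ₗ[F] (Fin n → F) where
  toFun k := (k : Matrix (Fin n) (Fin n) F).mulVec v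
  map_add' a b := by
    simp only [Subalgebra.coe_add, Matrix.add_mulVec]
  map_smul' a k := by
    simp only [Subalgebra.coe_smul, Matrix.smul_mulVec, RingHom.id_apply]

/-- NC-CENT (1/2): the centraliser of a Singer field in the matrix algebra is the field. -/
theorem cent (hn : 1 ≤ n) (K : Tor n F) (c : Matrix (Fin n) (Fin n) F)
    (hc : ∀ k ∈ K.1, c * k = k * c) : c ∈ K.1 := by
  obtain ⟨K, hKf, hKn⟩ := K
  simp only at hc ⊢
  -- a nonzero vector
  set v : Fin n → F := Pi.single ⟨0, hn⟩ 1 with hv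
  have hv0 : v ≠ 0 := by
    intro h
    have := congrFun h ⟨0, hn⟩
    simp [hv] at this
  -- injectivity of the evaluation
  have hinj : Function.Injective (nc_cent_ev K v) := by
    rw [← LinearMap.ker_eq_bot, LinearMap.ker_eq_bot']
    intro k hk
    by_contra hk0
    obtain ⟨k', hk'⟩ := hKf.mul_inv_cancel hk0
    have h1 : ((k' * k : ↥K) : Matrix (Fin n) (Fin n) F).mulVec v = v := by
      rw [hKf.mul_comm, hk', Subalgebra.coe_one, Matrix.one_mulVec]
    have h2 : ((k' * k : ↥K) : Matrix (Fin n) (Fin n) F).mulVec v = 0 := by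
      have hk2 : (k : Matrix (Fin n) (Fin n) F).mulVec v = 0 := hk
      rw [Subalgebra.coe_mul, ← Matrix.mulVec_mulVec, hk2, Matrix.mulVec_zero]
    exact hv0 (h1.symm.trans h2)
  haveI : Module.Finite F ↥K := Module.finite_of_finrank_pos (by rw [hKn]; exact hn)
  have hsurj : Function.Surjective (nc_cent_ev K v) := by
    refine (LinearMap.injective_iff_surjective_of_finrank_eq_finrank ?_).1 hinj
    rw [hKn, Module.finrank_fin_fun]
  obtain ⟨k₀, hk₀⟩ := hsurj (c.mulVec v)
  have hk₀' : (k₀ : Matrix (Fin n) (Fin n) F).mulVec v = c.mulVec v := hk₀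
  have hck : c = (k₀ : Matrix (Fin n) (Fin n) F) := by
    rw [Matrix.ext_iff_mulVec]
    intro w
    obtain ⟨k, hk⟩ := hsurj w
    have hk' : (k : Matrix (Fin n) (Fin n) F).mulVec v = w := hk
    rw [← hk', Matrix.mulVec_mulVec, Matrix.mulVec_mulVec, hc k k.2, ← Matrix.mulVec_mulVec,
      ← hk₀', Matrix.mulVec_mulVec, ← Subalgebra.coe_mul, ← Subalgebra.coe_mul, hKf.mul_comm]
  rw [hck]
  exact k₀.2

/-- NC-CENT (2/2) -/
theorem cent_of_adjoin (hn : 1 ≤ n) (K : Tor n F) (t : Matrix (Fin n) (Fin n) F)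
    (hgen : Algebra.adjoin F {t} = K.1) (c : Matrix (Fin n) (Fin n) F) (hc : c * t = t * c) :
    c ∈ K.1 := by
  apply cent hn K c
  intro k hk
  have hle : Algebra.adjoin F {t} ≤ Subalgebra.centralizer F {c} := by
    apply Algebra.adjoin_le
    intro x hx
    rw [Set.mem_singleton_iff] at hx
    rw [hx, SetLike.mem_coe, Subalgebra.mem_centralizer_iff]
    intro g hg
    rw [Set.mem_singleton_iff] at hg
    rw [hg, hc]
  rw [← hgen] at hk
  exact (Subalgebra.mem_centralizer_iff F).1 (hle hk) c rfl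

end Cfsg.Agent.Helper17.NC
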