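import Mathlib
import Cfsg.Agent.Lib.Helper17.NCBasic
import Cfsg.Agent.Lib.Helper3.NilpotentCoprime

/-!
# S3894 piece NC-CENTR (helper1): a central element of prime order in a nilpotent subgroup.
-/

set_option autoImplicit false

namespace Cfsg.Agent.Helper17.NC

open Matrix

section abs

universe u

/-- a finite nilpotent group of order divisible by the prime `r` has a central element of order `r` -/
theorem nc_centr_aux (N : Type u) [Group N] [Finite N] [Group.IsNilpotent N] (r : ℕ) (hr : r.Prime)
    (hdvd : r ∣ Nat.card N) : ∃ z : N, orderOf z = r ∧ ∀ a : N, Commute z a := by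
  haveI : Fact r.Prime := ⟨hr⟩
  let P : Sylow r N := default
  have hPne : (P : Subgroup N) ≠ ⊥ := P.ne_bot_of_dvd_card hdvd
  haveI : Nontrivial ↥(P : Subgroup N) := (Subgroup.nontrivial_iff_ne_bot _).2 hPne
  haveI : Nontrivial (Subgroup.center ↥(P : Subgroup N)) := P.isPGroup'.center_nontrivial
  have hZp : IsPGroup r (Subgroup.center ↥(P : Subgroup N)) := P.isPGroup'.to_subgroup _
  have hdvdZ : r ∣ Nat.card (Subgroup.center ↥(P : Subgroup N)) := by
    rcases hZp.card_eq_or_dvd with h | h
    · exact absurd h (ne_of_gt Finite.one_lt_card)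
    · exact h
  obtain ⟨z₀, hz₀⟩ := exists_prime_orderOf_dvd_card' r hdvdZ
  have hzord : orderOf (((z₀ : ↥(P : Subgroup N)) : N)) = r := by
    rw [Subgroup.orderOf_coe, Subgroup.orderOf_coe]; exact hz₀
  have hzP : ∀ b ∈ (P : Subgroup N), ((z₀ : ↥(P : Subgroup N)) : N) * b = b * ((z₀ : ↥(P : Subgroup N)) : N) := by
    intro b hb
    have := Subgroup.mem_center_iff.1 z₀.2 ⟨b, hb⟩
    exact (congrArg Subtype.val this).symm
  have hC : Subgroup.centralizer ({((z₀ : ↥(P : Subgroup N)) : N)} : Set N) = ⊤ := by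
    rw [← Subgroup.index_eq_one, Nat.eq_one_iff_not_exists_prime_dvd]
    intro q hq hqdvd
    haveI : Fact q.Prime := ⟨hq⟩
    by_cases hqr : q = r
    · subst hqr
      have hle : (P : Subgroup N) ≤ Subgroup.centralizer {((z₀ : ↥(P : Subgroup N)) : N)} := by
        intro b hb
        rw [Subgroup.mem_centralizer_iff]
        intro y hy
        rw [Set.mem_singleton_iff] at hy
        rw [hy]; exact hzP b hb
      exact P.not_dvd_index (hqdvd.trans (Subgroup.index_dvd_of_le hle))
    · let Q : Sylow q N := default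
      have hle : (Q : Subgroup N) ≤ Subgroup.centralizer {((z₀ : ↥(P : Subgroup N)) : N)} := by
        intro b hb
        rw [Subgroup.mem_centralizer_iff]
        intro y hy
        rw [Set.mem_singleton_iff] at hy
        rw [hy]
        obtain ⟨k, hk⟩ := IsPGroup.iff_orderOf.1 Q.isPGroup' ⟨b, hb⟩
        rw [Subgroup.orderOf_mk] at hk
        apply Cfsg.Agent.Helper3.mul_comm_of_coprime_of_isNilpotent N _ b
          (isOfFinOrder_of_finite _) (isOfFinOrder_of_finite _)
        rw [hzord, hk]
        exact Nat.Coprime.pow_right k ((Nat.coprime_primes hr hq).2 (Ne.symm hqr))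
      exact Q.not_dvd_index (hqdvd.trans (Subgroup.index_dvd_of_le hle))
  refine ⟨((z₀ : ↥(P : Subgroup N)) : N), hzord, fun a => ?_⟩
  have ha : a ∈ Subgroup.centralizer ({((z₀ : ↥(P : Subgroup N)) : N)} : Set N) :=
    hC ▸ Subgroup.mem_top a
  exact Subgroup.mem_centralizer_iff.1 ha _ rfl

/-- NC-CENTR: a nilpotent subgroup containing an element of order divisible by the prime `r`
has a central element of order `r`. -/
theorem exists_central_sub {G : Type*} [Group G] [Finite G] (A : Subgroup G)
    (hA : Group.IsNilpotent ↥A) (r : ℕ) (hr : r.Prime) (t : G) (ht : t ∈ A)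
    (hrt : r ∣ orderOf t) : ∃ z : G, z ∈ A ∧ orderOf z = r ∧ ∀ a ∈ A, Commute z a := by
  have hdvd : r ∣ Nat.card ↥A := by
    refine hrt.trans ?_
    rw [← Subgroup.orderOf_mk t ht]
    exact orderOf_dvd_natCard _
  obtain ⟨z, hz, hcomm⟩ := nc_centr_aux ↥A r hr hdvd
  refine ⟨(z : G), z.2, ?_, fun a ha => ?_⟩
  · rw [Subgroup.orderOf_coe]; exact hz
  · have := hcomm ⟨a, ha⟩
    exact congrArg Subtype.val this

end abs

end Cfsg.Agent.Helper17.NC
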