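import Cfsg.Agent.Lib.Helper17.NCBasic
import Cfsg.Agent.Lib.NC.NCSUBF
import Cfsg.Agent.Lib.NC.NCZSIG
import Cfsg.Agent.Lib.NC.NCCENTR
import Cfsg.Agent.Lib.NC.NCCENT

/-! # S3894 piece NC-TT3: two Singer elements in a nilpotent subgroup belong to the same field -/

set_option autoImplicit false

namespace Cfsg.Agent.Helper17.NC

open Matrix

variable {F : Type*} [Field F] [Fintype F] {n : ℕ}

theorem nc_tt3_val_comm {a b : GL (Fin n) F} (h : Commute a b) :
    (a : Matrix (Fin n) (Fin n) F) * (b : Matrix (Fin n) (Fin n) F) =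
      (b : Matrix (Fin n) (Fin n) F) * (a : Matrix (Fin n) (Fin n) F) := by
  have := congrArg (fun g : GL (Fin n) F => (g : Matrix (Fin n) (Fin n) F)) h.eq
  simpa only [Units.val_mul] using this

/-- NC-TT3 -/
theorem tt_ge3 (hn : 3 ≤ n) (K K' : Tor n F) (t t' : GL (Fin n) F)
    (hgen : Algebra.adjoin F {(t : Matrix (Fin n) (Fin n) F)} = K.1)
    (hgen' : Algebra.adjoin F {(t' : Matrix (Fin n) (Fin n) F)} = K'.1)
    (hord : orderOf t = (Fintype.card F ^ n - 1) / (Fintype.card F - 1))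
    (A : Subgroup (GL (Fin n) F)) (hA : Group.IsNilpotent ↥A) (htA : t ∈ A) (ht'A : t' ∈ A) :
    K = K' := by
  have hq : 2 ≤ Fintype.card F := Fintype.one_lt_card
  have hn1 : 1 ≤ n := by omega
  by_contra hne
  have hL : K.1 ⊓ K'.1 ≤ K.1 := inf_le_left
  have hLne : K.1 ⊓ K'.1 ≠ K.1 := by
    intro h
    apply hne
    have hle : K.1 ≤ K'.1 := by
      rw [← h]; exact inf_le_right
    have heq : K.1 = K'.1 := by
      have h1 : Subalgebra.toSubmodule K.1 ≤ Subalgebra.toSubmodule K'.1 := hle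
      have h2 : Module.finrank F (Subalgebra.toSubmodule K'.1) ≤
          Module.finrank F (Subalgebra.toSubmodule K.1) := by
        change Module.finrank F K'.1 ≤ Module.finrank F K.1
        rw [K.2.2, K'.2.2]
      have h3 := Submodule.eq_of_le_of_finrank_le h1 h2
      exact Subalgebra.toSubmodule_injective h3
    exact Subtype.ext heq
  obtain ⟨hk0, hkn, hpow⟩ := subfield_facts K _ hL
  have hkn' := hkn hLne
  obtain ⟨r, hr, hr1, hr2⟩ := weak_zsig (Fintype.card F) n hq hn _ hk0 hkn'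
  have hr3 : r ∣ orderOf t := by
    rw [hord]
    apply prime_dvd_quot _ n hq hn1 r hr hr1
    intro h3
    apply hr2
    have h4 : Fintype.card F - 1 ∣
        Fintype.card F ^ Module.finrank F ↥(K.1 ⊓ K'.1) - 1 := by
      have := Nat.sub_dvd_pow_sub_pow (Fintype.card F) 1 (Module.finrank F ↥(K.1 ⊓ K'.1))
      rwa [one_pow] at this
    exact dvd_trans h3 h4
  obtain ⟨z, hzA, hzr, hzc⟩ := exists_central_sub A hA r hr t htA hr3
  have hz1 : (z : Matrix (Fin n) (Fin n) F) ∈ K.1 :=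
    cent_of_adjoin hn1 K _ hgen _ (nc_tt3_val_comm (hzc t htA))
  have hz2 : (z : Matrix (Fin n) (Fin n) F) ∈ K'.1 :=
    cent_of_adjoin hn1 K' _ hgen' _ (nc_tt3_val_comm (hzc t' ht'A))
  have hz3 := hpow z ⟨hz1, hz2⟩
  have := orderOf_dvd_of_pow_eq_one hz3
  rw [hzr] at this
  exact hr2 this

end Cfsg.Agent.Helper17.NC
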