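import Cfsg.Agent.Lib.Helper17.NCBasic
import Cfsg.Agent.Lib.Helper3.NilpotentCoprime

/-!
# S3894 piece NC-COP (helper3): in a nilpotent subgroup, elements whose orders divide coprime numbers commute.
-/

set_option autoImplicit false

namespace Cfsg.Agent.Helper17.NC

open Matrix

section abs

/-- NC-COP: in a nilpotent subgroup, elements whose orders divide coprime numbers commute. -/
theorem commute_of_coprime_sub {G : Type*} [Group G] [Finite G] (A : Subgroup G)
    (hA : Group.IsNilpotent ↥A) (x y : G) (hx : x ∈ A) (hy : y ∈ A) (m₁ m₂ : ℕ)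
    (h : m₁.Coprime m₂) (hx' : x ^ m₁ = 1) (hy' : y ^ m₂ = 1) : Commute x y := by
  have hcop : (orderOf x).Coprime (orderOf y) :=
    (h.coprime_dvd_left (orderOf_dvd_of_pow_eq_one hx')).coprime_dvd_right
      (orderOf_dvd_of_pow_eq_one hy')
  exact Cfsg.Agent.Helper3.mul_comm_of_mem_isNilpotent_of_coprime hA hx hy hcop

end abs

end Cfsg.Agent.Helper17.NC
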