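import Cfsg.Agent.Lib.Helper17.NCBasic

/-!
# S3894, PIECE NC-U0POW (helper14): the regular unipotent `u0` and its conjugates `uj j` have order dividing `p^n`,
determinant `1`, and are non-trivial for `n ≥ 2`.
-/

set_option autoImplicit false
set_option linter.unusedSectionVars false

namespace Cfsg.Agent.Helper17.NC

open Matrix

variable {F : Type*} [Field F] [Fintype F] {n : ℕ}

/-- powers of a strictly upper triangular matrix -/
theorem nc_u0pow_strictUpper_pow {R : Type*} [CommRing R] (M : Matrix (Fin n) (Fin n) R)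
    (hM : ∀ i j : Fin n, j ≤ i → M i j = 0) (k : ℕ) :
    ∀ i j : Fin n, j.val < i.val + k → (M ^ k) i j = 0 := by
  induction k with
  | zero =>
    intro i j h
    rw [pow_zero, Matrix.one_apply_ne]
    intro e
    subst e
    omega
  | succ k ih =>
    intro i j h
    rw [pow_succ, Matrix.mul_apply]
    apply Finset.sum_eq_zero
    intro l _
    by_cases hl : l.val < i.val + k
    · rw [ih i l hl, zero_mul]
    · rw [hM l j (by rw [Fin.le_def]; omega), mul_zero]

/-- `u0mat - 1` is strictly upper triangular -/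
theorem nc_u0pow_sub_one (i j : Fin n) (hji : j ≤ i) : (u0mat n F - 1) i j = 0 := by
  rw [Matrix.sub_apply, u0mat_apply]
  by_cases h : i = j
  · subst h
    rw [if_pos (Or.inl rfl), Matrix.one_apply_eq, sub_self]
  · have h2 : ¬ (i = j ∨ i.val + 1 = j.val) := by
      rintro (h' | h')
      · exact h h'
      · rw [Fin.le_def] at hji; omega
    rw [if_neg h2, Matrix.one_apply_ne h, sub_self]

/-- matrix form of `u0_pow` -/
theorem nc_u0pow_mat (p : ℕ) [Fact p.Prime] [CharP F p] : (u0mat n F) ^ (p ^ n) = 1 := by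
  rcases Nat.eq_zero_or_pos n with hn | hn
  · subst hn
    exact Subsingleton.elim _ _
  · have : Nonempty (Fin n) := ⟨⟨0, hn⟩⟩
    have hpow : (u0mat n F - 1) ^ (p ^ n) = 0 := by
      ext i j
      rw [Matrix.zero_apply]
      apply nc_u0pow_strictUpper_pow _ (nc_u0pow_sub_one (F := F))
      have h1 := j.2
      have h2 : n < p ^ n := Nat.lt_pow_self (Fact.out : p.Prime).one_lt
      omega
    have h3 : u0mat n F = (u0mat n F - 1) + 1 := by abel
    rw [h3, add_pow_char_pow_of_commute p n (Commute.one_right _), hpow, one_pow, zero_add]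

/-- NC-U0POW (1/6) -/
theorem u0_pow (p : ℕ) [Fact p.Prime] [CharP F p] : (u0 n F) ^ (p ^ n) = 1 := by
  apply Units.ext
  rw [Units.val_pow_eq_pow_val, coe_u0, nc_u0pow_mat p, Units.val_one]

/-- NC-U0POW (2/6) -/
theorem u0_ne_one (hn : 2 ≤ n) : u0 n F ≠ 1 := by
  intro h
  have h1 := congrArg (fun g : GL (Fin n) F => (g : Matrix (Fin n) (Fin n) F)) h
  simp only [coe_u0, Units.val_one] at h1
  have h2 := congrFun (congrFun h1 ⟨0, by omega⟩) ⟨1, by omega⟩
  rw [u0mat_apply, if_pos (Or.inr rfl), Matrix.one_apply_ne (by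
    intro e; have := congrArg Fin.val e; simp at this)] at h2
  exact one_ne_zero h2

/-- NC-U0POW (3/6) -/
theorem det_u0 : Matrix.GeneralLinearGroup.det (u0 n F) = 1 := by
  apply Units.ext
  rw [Matrix.GeneralLinearGroup.val_det_apply, coe_u0, det_u0mat, Units.val_one]

/-- NC-U0POW (4/6) -/
theorem uj_pow (p : ℕ) [Fact p.Prime] [CharP F p] (j : Flag n F) : uj j ^ (p ^ n) = 1 := by
  unfold uj
  rw [conj_pow, u0_pow p, mul_one, mul_inv_cancel]

/-- NC-U0POW (5/6) -/
theorem uj_ne_one (hn : 2 ≤ n) (j : Flag n F) : uj j ≠ 1 := by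
  intro h
  unfold uj at h
  apply u0_ne_one (F := F) hn
  have : u0 n F = j.out⁻¹ * (j.out * u0 n F * j.out⁻¹) * j.out := by group
  rw [this, h]
  group

/-- NC-U0POW (6/6) -/
theorem det_uj (j : Flag n F) : Matrix.GeneralLinearGroup.det (uj j) = 1 := by
  unfold uj
  rw [map_mul, map_mul, det_u0, mul_one, map_inv, mul_inv_cancel]

end Cfsg.Agent.Helper17.NC
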