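import Cfsg.Agent.Lib.Helper17.NCBasic
import Cfsg.Agent.Lib.NC.NCSUBF
import Cfsg.Agent.Lib.NC.NCCOP
import Cfsg.Agent.Lib.NC.NCCENT
import Cfsg.Agent.Lib.NC.NCU0POW

/-! # S3894 piece NC-TU: a Singer element and a regular unipotent are in no common nilpotent
subgroup -/

set_option autoImplicit false

namespace Cfsg.Agent.Helper17.NC

open Matrix

variable {F : Type*} [Field F] [Fintype F] {n : ℕ}

theorem nc_tu_coprime (p f n : ℕ) (hp : p.Prime) (hf : 0 < f) (hn : 0 < n) :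
    Nat.Coprime ((p ^ f) ^ n - 1) (p ^ n) := by
  apply Nat.Coprime.pow_right
  rw [Nat.coprime_comm, Nat.Prime.coprime_iff_not_dvd hp]
  intro h
  have h1 : p ∣ (p ^ f) ^ n := by
    rw [← pow_mul]
    exact dvd_pow_self p (by positivity)
  have h2 : 1 ≤ (p ^ f) ^ n := Nat.one_le_pow _ _ (pow_pos hp.pos f)
  have h3 : p ∣ (p ^ f) ^ n - ((p ^ f) ^ n - 1) := Nat.dvd_sub h1 h
  have h4 : (p ^ f) ^ n - ((p ^ f) ^ n - 1) = 1 := by omega
  rw [h4] at h3
  exact hp.one_lt.ne' (Nat.dvd_one.1 h3)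

/-- NC-TU -/
theorem tu_false (hn : 2 ≤ n) (K : Tor n F) (t : GL (Fin n) F) (ht : t ∈ torSub K.1)
    (hgen : Algebra.adjoin F {(t : Matrix (Fin n) (Fin n) F)} = K.1)
    (A : Subgroup (GL (Fin n) F)) (hA : Group.IsNilpotent ↥A) (htA : t ∈ A)
    (j : Flag n F) (hj : uj j ∈ A) : False := by
  have hn1 : 1 ≤ n := by omega
  obtain ⟨p, hchar⟩ := CharP.exists F
  have := hchar
  have : Fact p.Prime := ⟨CharP.char_is_prime F p⟩
  obtain ⟨⟨f, hf⟩, -, hcard⟩ := FiniteField.card F p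
  simp only [PNat.mk_coe] at hcard
  obtain ⟨-, -, hpow⟩ := subfield_facts K K.1 le_rfl
  rw [K.2.2] at hpow
  have ht1 : t ^ (Fintype.card F ^ n - 1) = 1 := hpow t ht.1
  have hu1 : uj j ^ (p ^ n) = 1 := uj_pow p j
  have hcop : Nat.Coprime (Fintype.card F ^ n - 1) (p ^ n) := by
    rw [hcard]
    exact nc_tu_coprime p f n (Fact.out) hf (by omega)
  have hcomm : Commute t (uj j) :=
    commute_of_coprime_sub A hA t (uj j) htA hj _ _ hcop ht1 hu1
  have hval : ((uj j : GL (Fin n) F) : Matrix (Fin n) (Fin n) F) * (t : Matrix (Fin n) (Fin n) F) =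
      (t : Matrix (Fin n) (Fin n) F) * ((uj j : GL (Fin n) F) : Matrix (Fin n) (Fin n) F) := by
    have := congrArg (fun g : GL (Fin n) F => (g : Matrix (Fin n) (Fin n) F)) hcomm.eq
    simpa only [Units.val_mul] using this.symm
  have hmem : ((uj j : GL (Fin n) F) : Matrix (Fin n) (Fin n) F) ∈ K.1 :=
    cent_of_adjoin hn1 K _ hgen _ hval
  have hu2 : uj j ^ (Fintype.card F ^ n - 1) = 1 := hpow (uj j) hmem
  have h1 : orderOf (uj j) ∣ Nat.gcd (Fintype.card F ^ n - 1) (p ^ n) :=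
    Nat.dvd_gcd (orderOf_dvd_of_pow_eq_one hu2) (orderOf_dvd_of_pow_eq_one hu1)
  rw [hcop.gcd_eq_one, Nat.dvd_one, orderOf_eq_one_iff] at h1
  exact uj_ne_one hn j h1

end Cfsg.Agent.Helper17.NC
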