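import Cfsg.Agent.Lib.Helper17.NCBasic
import Cfsg.Agent.Lib.NC.NCCARDB
import Cfsg.Agent.Lib.NC.NCARITHA

/-! # S3894 piece NC-FLAGP: the index of the Borel subgroup is prime to the characteristic -/

set_option autoImplicit false

namespace Cfsg.Agent.Helper17.NC

open Matrix

variable {F : Type*} [Field F] [Fintype F] {n : ℕ}

/-- NC-FLAGP -/
theorem flag_not_dvd (p : ℕ) [Fact p.Prime] [CharP F p] : ¬ p ∣ Nat.card (Flag n F) := by
  have hq : 2 ≤ Fintype.card F := Fintype.one_lt_card
  obtain ⟨⟨f, hf⟩, -, hcard⟩ := FiniteField.card F p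
  simp only [PNat.mk_coe] at hcard
  exact arith_not_dvd p f (Fintype.card F) n (Nat.card (Flag n F)) Fact.out hf hcard
    (arith_flag (Fintype.card F) n (Nat.card (Flag n F)) hq card_flag_mul)

end Cfsg.Agent.Helper17.NC
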