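import Cfsg.Agent.Lib.Helper17.NCBasic

/-!
# S3894, PIECE NC-REGUNIP (helper14): the regular unipotent element `u0` lies in a unique Borel subgroup:
`y⁻¹ u0 y ∈ B → y ∈ B`.

Proof: `b = y⁻¹ u0 y` is upper triangular with the characteristic polynomial `(X - 1)^n` of `u0`, so its diagonal is
`1`; then `u0 y = y b` gives, column by column, that `y` is upper triangular.
-/

set_option autoImplicit false
set_option linter.unusedSectionVars false

namespace Cfsg.Agent.Helper17.NC

open Matrix

variable {F : Type*} [Field F] [Fintype F] {n : ℕ}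

/-- the diagonal of an upper triangular matrix with characteristic polynomial `(X - 1)^n` is `1` -/
theorem nc_regunip_diag (b : Matrix (Fin n) (Fin n) F) (hb : b.BlockTriangular id)
    (hchar : b.charpoly = (u0mat n F).charpoly) (j : Fin n) : b j j = 1 := by
  have h1 : b.charpoly = ∏ i : Fin n, (Polynomial.X - Polynomial.C (b i i)) :=
    Matrix.charpoly_of_isUpperTriangular b hb
  have h2 : (u0mat n F).charpoly = ∏ i : Fin n, (Polynomial.X - Polynomial.C ((u0mat n F) i i)) :=
    Matrix.charpoly_of_isUpperTriangular _ (u0mat_blockTriangular n F)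
  have h3 : ∏ i : Fin n, (Polynomial.X - Polynomial.C (b i i)) =
      ∏ i : Fin n, (Polynomial.X - Polynomial.C ((u0mat n F) i i)) := by
    rw [← h1, ← h2, hchar]
  have h4 := congrArg (Polynomial.eval (b j j)) h3
  rw [Polynomial.eval_prod, Polynomial.eval_prod] at h4
  have h5 : ∏ i : Fin n, Polynomial.eval (b j j) (Polynomial.X - Polynomial.C (b i i)) = 0 := by
    apply Finset.prod_eq_zero (Finset.mem_univ j)
    simp
  rw [h5] at h4
  have h6 : ∀ i : Fin n, Polynomial.eval (b j j)
      (Polynomial.X - Polynomial.C ((u0mat n F) i i)) = b j j - 1 := by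
    intro i
    rw [u0mat_apply, if_pos (Or.inl rfl)]
    simp
  rw [Finset.prod_congr rfl (fun i _ => h6 i), Finset.prod_const] at h4
  have h7 : b j j - 1 = 0 := by
    by_contra hne
    exact pow_ne_zero _ hne h4.symm
  exact sub_eq_zero.1 h7

/-- a row of `u0 * Y` -/
theorem nc_regunip_u0_mul (Y : Matrix (Fin n) (Fin n) F) (i i' : Fin n) (hi : i.val + 1 = i'.val)
    (j : Fin n) : (u0mat n F * Y) i j = Y i j + Y i' j := by
  rw [Matrix.mul_apply]
  have hne : i ≠ i' := by
    intro h; rw [h] at hi; omega
  have hterm : ∀ k : Fin n, u0mat n F i k * Y k j =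
      (if k = i then Y i j else 0) + (if k = i' then Y i' j else 0) := by
    intro k
    rw [u0mat_apply]
    by_cases h1 : k = i
    · subst h1
      rw [if_pos (Or.inl rfl), if_pos rfl, if_neg hne, one_mul, add_zero]
    · by_cases h2 : k = i'
      · subst h2
        rw [if_pos (Or.inr hi), if_neg h1, if_pos rfl, one_mul, zero_add]
      · have h3 : ¬ (i = k ∨ i.val + 1 = k.val) := by
          rintro (h | h)
          · exact h1 h.symm
          · apply h2; apply Fin.ext; omega
        rw [if_neg h3, if_neg h1, if_neg h2, zero_mul, add_zero]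
  rw [Finset.sum_congr rfl (fun k _ => hterm k), Finset.sum_add_distrib,
    Finset.sum_ite_eq' Finset.univ i, Finset.sum_ite_eq' Finset.univ i']
  simp

/-- matrix form: `u0 * Y = Y * b`, `b` upper triangular with diagonal `1`: then `Y` is upper triangular -/
theorem nc_regunip_mat (Y b : Matrix (Fin n) (Fin n) F) (hb : b.BlockTriangular id)
    (hdiag : ∀ j, b j j = 1) (hYb : u0mat n F * Y = Y * b) : Y.BlockTriangular id := by
  -- strong induction on the column
  have key : ∀ m : ℕ, ∀ j : Fin n, j.val = m → ∀ i : Fin n, j < i → Y i j = 0 := by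
    intro m
    induction m using Nat.strong_induction_on with
    | _ m ih =>
      intro j hj i' hji'
      have hpos : 0 < i'.val := by
        have : j.val < i'.val := hji'
        omega
      set i : Fin n := ⟨i'.val - 1, by have := i'.isLt; omega⟩ with hi
      have hii' : i.val + 1 = i'.val := by
        simp only [hi]; omega
      have hji : j ≤ i := by
        have : j.val < i'.val := hji'
        apply Fin.mk_le_of_le_val
        simp only [hi]; omega
      have h1 := nc_regunip_u0_mul Y i i' hii' j
      rw [hYb, Matrix.mul_apply] at h1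
      have h2 : ∑ k : Fin n, Y i k * b k j = Y i j := by
        rw [Finset.sum_eq_single j]
        · rw [hdiag j, mul_one]
        · intro k _ hkj
          rcases lt_or_gt_of_ne hkj with hlt | hgt
          · -- `k < j ≤ i`
            have hk : k.val < m := by rw [← hj]; exact hlt
            rw [ih k.val hk k rfl i (lt_of_lt_of_le hlt hji), zero_mul]
          · -- `j < k`: `b k j = 0`
            rw [hb hgt, mul_zero]
        · intro hj'; exact absurd (Finset.mem_univ j) hj'
      rw [h2] at h1
      have := h1
      -- `Y i j = Y i j + Y i' j`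
      have h3 : Y i' j = 0 := by
        have h4 : Y i j + Y i' j = Y i j + 0 := by rw [add_zero]; exact h1.symm
        exact add_left_cancel h4
      exact h3
  intro i j hij
  exact key j.val j rfl i hij

/-- NC-REGUNIP: the regular unipotent element lies in a unique Borel subgroup. -/
theorem regunip (y : GL (Fin n) F)
    (h : y⁻¹ * u0 n F * y ∈ Cfsg.upperTriangularGL n F) : y ∈ Cfsg.upperTriangularGL n F := by
  have hb : ((y⁻¹ * u0 n F * y : GL (Fin n) F) : Matrix (Fin n) (Fin n) F).BlockTriangular id := h
  have hval : ((y⁻¹ * u0 n F * y : GL (Fin n) F) : Matrix (Fin n) (Fin n) F) =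
      (y : Matrix (Fin n) (Fin n) F)⁻¹ * u0mat n F * (y : Matrix (Fin n) (Fin n) F) := by
    rw [Units.val_mul, Units.val_mul, coe_u0, Matrix.coe_units_inv]
  have hchar : ((y⁻¹ * u0 n F * y : GL (Fin n) F) : Matrix (Fin n) (Fin n) F).charpoly =
      (u0mat n F).charpoly := by
    rw [hval]; exact Matrix.charpoly_units_conj' y _
  have hdiag := nc_regunip_diag _ hb hchar
  have hYb : u0mat n F * (y : Matrix (Fin n) (Fin n) F) =
      (y : Matrix (Fin n) (Fin n) F) *
        ((y⁻¹ * u0 n F * y : GL (Fin n) F) : Matrix (Fin n) (Fin n) F) := by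
    have : u0 n F * y = y * (y⁻¹ * u0 n F * y) := by group
    have h2 := congrArg (fun g : GL (Fin n) F => (g : Matrix (Fin n) (Fin n) F)) this
    simp only [Units.val_mul] at h2
    rw [coe_u0] at h2
    simpa only [Units.val_mul, coe_u0] using h2
  exact nc_regunip_mat _ _ hb hdiag hYb

end Cfsg.Agent.Helper17.NC
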