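import Mathlib

/-!
# S3894 piece NC-PFIX (helper7): `exists_conj_mem`
-/

set_option autoImplicit false

namespace Cfsg.Agent.Helper17.NC

section abs

/-- NC-PFIX: a `p`-subgroup fixes a coset of a subgroup of index prime to `p`. -/
theorem exists_conj_mem {Γ : Type*} [Group Γ] [Finite Γ] (B : Subgroup Γ) (p : ℕ) [Fact p.Prime]
    (hidx : ¬ p ∣ Nat.card (Γ ⧸ B)) (Q : Subgroup Γ) (hQ : IsPGroup p ↥Q) :
    ∃ x : Γ, ∀ g ∈ Q, x⁻¹ * g * x ∈ B := by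
  obtain ⟨c, hc⟩ := hQ.nonempty_fixed_point_of_prime_not_dvd_card (Γ ⧸ B) hidx
  obtain ⟨x, rfl⟩ := QuotientGroup.mk_surjective c
  refine ⟨x, fun g hg => ?_⟩
  have h1 := hc ⟨g, hg⟩
  have h2 : ((g * x : Γ) : Γ ⧸ B) = (x : Γ ⧸ B) := h1
  have h3 := QuotientGroup.eq.mp h2
  have h4 : x⁻¹ * g * x = ((g * x)⁻¹ * x)⁻¹ := by group
  rw [h4]
  exact B.inv_mem h3

end abs

end Cfsg.Agent.Helper17.NC
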