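import Cfsg.Agent.Lib.NC.NCPSUB
import Cfsg.Agent.Lib.NC.NCPFIX

/-! # S3894 piece NC-UUABS -/

set_option autoImplicit false

namespace Cfsg.Agent.Helper17.NC

open Matrix

section abs

theorem nc_uuabs_conj_pow {Γ : Type*} [Group Γ] (y u : Γ) (m : ℕ) (h : u ^ m = 1) :
    (y * u * y⁻¹) ^ m = 1 := by
  rw [conj_pow, h, mul_one, mul_inv_cancel]

/-- NC-UUABS -/
theorem uu_abs {Γ : Type*} [Group Γ] [Finite Γ] (B : Subgroup Γ) (p : ℕ) [Fact p.Prime]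
    (hidx : ¬ p ∣ Nat.card (Γ ⧸ B)) (u₀ : Γ) (e : ℕ) (hu₀ : u₀ ^ (p ^ e) = 1)
    (hreg : ∀ y : Γ, y⁻¹ * u₀ * y ∈ B → y ∈ B)
    (A : Subgroup Γ) (hA : Group.IsNilpotent ↥A) (j j' : Γ ⧸ B)
    (hj : j.out * u₀ * j.out⁻¹ ∈ A) (hj' : j'.out * u₀ * j'.out⁻¹ ∈ A) : j = j' := by
  obtain ⟨Q, hQ, hjQ, hj'Q⟩ := exists_pgroup_of_nilpotent p A hA _ _ hj hj' e
    (nc_uuabs_conj_pow _ _ _ hu₀) (nc_uuabs_conj_pow _ _ _ hu₀)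
  obtain ⟨x, hx⟩ := exists_conj_mem B p hidx Q hQ
  have key : ∀ i : Γ ⧸ B, i.out * u₀ * i.out⁻¹ ∈ Q → (x : Γ ⧸ B) = i := by
    intro i hi
    have h1 := hx _ hi
    have h2 : (i.out⁻¹ * x)⁻¹ * u₀ * (i.out⁻¹ * x) ∈ B := by
      have : (i.out⁻¹ * x)⁻¹ * u₀ * (i.out⁻¹ * x) = x⁻¹ * (i.out * u₀ * i.out⁻¹) * x := by group
      rw [this]; exact h1
    have h3 := hreg _ h2
    have h4 : ((i.out : Γ) : Γ ⧸ B) = (x : Γ ⧸ B) := QuotientGroup.eq.2 h3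
    rw [← h4, QuotientGroup.out_eq']
  rw [← key j hjQ, ← key j' hj'Q]

end abs

end Cfsg.Agent.Helper17.NC
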