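import Cfsg.Agent.Lib.Helper17.NCBasic
import Cfsg.Agent.Lib.NC.NCUUABS
import Cfsg.Agent.Lib.NC.NCFLAGP
import Cfsg.Agent.Lib.NC.NCREGUNIP
import Cfsg.Agent.Lib.NC.NCU0POW

/-! # S3894 piece NC-UU: two regular unipotents of a nilpotent subgroup lie in the same Borel -/

set_option autoImplicit false

namespace Cfsg.Agent.Helper17.NC

open Matrix

variable {F : Type*} [Field F] [Fintype F] {n : ℕ}

/-- NC-UU -/
theorem uu (A : Subgroup (GL (Fin n) F)) (hA : Group.IsNilpotent ↥A)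
    (j j' : Flag n F) (hj : uj j ∈ A) (hj' : uj j' ∈ A) : j = j' := by
  obtain ⟨p, hchar⟩ := CharP.exists F
  have := hchar
  have : Fact p.Prime := ⟨CharP.char_is_prime F p⟩
  exact uu_abs (Cfsg.upperTriangularGL n F) p (flag_not_dvd p) (u0 n F) n (u0_pow p)
    regunip A hA j j' hj hj'

end Cfsg.Agent.Helper17.NC
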