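import Mathlib

/-!
# S3894, PIECE NC-PSUB (helper6, for helper17): two `p`-elements of a nilpotent subgroup lie in a
common `p`-subgroup (the normal Sylow `p`-subgroup of the nilpotent subgroup).
-/

set_option autoImplicit false

namespace Cfsg.Agent.Helper17.NC

open Matrix

section abs

/-- a `p`-element of a finite nilpotent group lies in every Sylow `p`-subgroup. -/
theorem nc_psub_mem_sylow {A : Type*} [Group A] [Finite A] (hA : Group.IsNilpotent A) (p : ℕ)
    [Fact p.Prime] (P : Sylow p A) (a : A) (e : ℕ) (ha : a ^ (p ^ e) = 1) : a ∈ P := by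
  have hzp : IsPGroup p (Subgroup.zpowers a) := by
    rintro ⟨g, hg⟩
    obtain ⟨k, rfl⟩ := Subgroup.mem_zpowers_iff.1 hg
    refine ⟨e, ?_⟩
    apply Subtype.ext
    simp only [SubgroupClass.coe_pow, Subgroup.coe_one]
    rw [← zpow_natCast, ← _root_.zpow_mul, mul_comm, _root_.zpow_mul, zpow_natCast, ha, _root_.one_zpow]
  obtain ⟨Q, hQ⟩ := hzp.exists_le_sylow
  have hnorm : (P : Subgroup A).Normal :=
    (Group.isNilpotent_of_finite_tfae.out 0 3 rfl rfl).mp hA p inferInstance P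
  have huniq := Sylow.unique_of_normal P hnorm
  have hQP : Q = P := Subsingleton.elim Q P
  rw [← hQP]
  exact hQ (Subgroup.mem_zpowers a)

/-- NC-PSUB: two `p`-elements of a nilpotent subgroup lie in a common `p`-subgroup. -/
theorem exists_pgroup_of_nilpotent {G : Type*} [Group G] [Finite G] (p : ℕ) [Fact p.Prime]
    (A : Subgroup G) (hA : Group.IsNilpotent ↥A) (x y : G) (hx : x ∈ A) (hy : y ∈ A) (e : ℕ)
    (hxe : x ^ (p ^ e) = 1) (hye : y ^ (p ^ e) = 1) :
    ∃ Q : Subgroup G, IsPGroup p ↥Q ∧ x ∈ Q ∧ y ∈ Q := by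
  obtain ⟨P⟩ : Nonempty (Sylow p A) := inferInstance
  refine ⟨(P : Subgroup A).map A.subtype, P.2.map A.subtype, ?_, ?_⟩
  · refine ⟨⟨x, hx⟩, ?_, rfl⟩
    apply nc_psub_mem_sylow hA p P ⟨x, hx⟩ e
    apply Subtype.ext
    simpa using hxe
  · refine ⟨⟨y, hy⟩, ?_, rfl⟩
    apply nc_psub_mem_sylow hA p P ⟨y, hy⟩ e
    apply Subtype.ext
    simpa using hye

end abs

end Cfsg.Agent.Helper17.NC
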